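import Groth.Agent.QCoh.ClosedPush
import Groth.Agent.QCoh.Support
import Mathlib.CategoryTheory.Adjunction.Mates

/-!
# Global sections of inverse images and morphisms of modules on affine schemes
-/

universe u

open CategoryTheory CategoryTheory.Limits AlgebraicGeometry TopologicalSpace Opposite

namespace Groth.Agent.FComplLib

variable {X Y Z : Scheme.{u}}

/-- A global section pulled back along `f`. -/
noncomputable def pullTop (f : X ⟶ Y) (G : Y.Modules) (x : Γ(G, ⊤)) :
    Γ((Scheme.Modules.pullback f).obj G, ⊤) :=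
  ((Scheme.Modules.pullbackPushforwardAdjunction f).unit.app G).app ⊤ x

theorem pullTop_add (f : X ⟶ Y) (G : Y.Modules) (x y : Γ(G, ⊤)) :
    pullTop f G (x + y) = pullTop f G x + pullTop f G y :=
  map_add (((Scheme.Modules.pullbackPushforwardAdjunction f).unit.app G).app ⊤).hom x y

theorem pullTop_smul (f : X ⟶ Y) (G : Y.Modules) (r : Γ(Y, ⊤)) (x : Γ(G, ⊤)) :
    pullTop f G (r • x) = (show Γ(X, ⊤) from f.appTop r) • pullTop f G x :=
  Scheme.Modules.Hom.app_smul ((Scheme.Modules.pullbackPushforwardAdjunction f).unit.app G) r x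

theorem pullTop_naturality (f : X ⟶ Y) {G G' : Y.Modules} (u : G ⟶ G') (x : Γ(G, ⊤)) :
    ((Scheme.Modules.pullback f).map u).app ⊤ (pullTop f G x) = pullTop f G' (u.app ⊤ x) :=
  (congrArg (fun φ => Scheme.Modules.Hom.app φ ⊤ x)
    ((Scheme.Modules.pullbackPushforwardAdjunction f).unit.naturality u)).symm

theorem pullTop_comp (f : X ⟶ Y) (g : Y ⟶ Z) (G : Z.Modules) (x : Γ(G, ⊤)) :
    ((Scheme.Modules.pullbackComp f g).hom.app G).app ⊤
        (pullTop f ((Scheme.Modules.pullback g).obj G) (pullTop g G x)) =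
      pullTop (f ≫ g) G x := by
  have h := unit_conjugateEquiv
    ((Scheme.Modules.pullbackPushforwardAdjunction g).comp
      (Scheme.Modules.pullbackPushforwardAdjunction f))
    (Scheme.Modules.pullbackPushforwardAdjunction (f ≫ g))
    (Scheme.Modules.pullbackComp f g).inv G
  rw [Scheme.Modules.conjugateEquiv_pullbackComp_inv] at h
  have h' := congrArg (fun φ => Scheme.Modules.Hom.app φ ⊤ x) h
  replace h' : (pullTop f ((Scheme.Modules.pullback g).obj G) (pullTop g G x) :) =
      ((Scheme.Modules.pullbackComp f g).inv.app G).app ⊤ (pullTop (f ≫ g) G x) := h'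
  rw [h']
  exact congrArg (fun φ => Scheme.Modules.Hom.app φ ⊤ (pullTop (f ≫ g) G x))
    ((Scheme.Modules.pullbackComp f g).inv_hom_id_app G)

theorem pullTop_congr {f g : X ⟶ Y} (h : f = g) (G : Y.Modules) (x : Γ(G, ⊤)) :
    ((Scheme.Modules.pullbackCongr h).hom.app G).app ⊤ (pullTop f G x) = pullTop g G x := by
  subst h
  rfl

/-- A morphism of quasi-coherent modules on an affine scheme bijective on global sections is an
isomorphism. -/
theorem isIso_of_bijective_app_top [IsAffine X] {M N : X.Modules} (hM : Coh.IsQCoh M)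
    (hN : Coh.IsQCoh N) (φ : M ⟶ N) (h : Function.Bijective (φ.app ⊤)) : IsIso φ := by
  have hz : ∀ {P : X.Modules}, Coh.IsQCoh P → (∀ z : Γ(P, (⊤ : X.Opens)), z = 0) → IsZero P :=
    fun hP hP0 => QCoh.isZero_of_cover hP (fun _ : PUnit.{1} => (⊤ : X.Opens))
      (fun _ => isAffineOpen_top X) (fun _ => ⟨PUnit.unit, trivial⟩)
      fun _ => subsingleton_of_forall_eq 0 hP0
  have : Mono φ := by
    refine Preadditive.mono_of_kernel_zero ?_
    refine IsZero.eq_of_src (hz (QCoh.isQCoh_kernel hM hN φ) fun z => ?_) _ _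
    refine QCoh.app_injective (kernel.ι φ) ⊤ (h.1 ?_)
    have := congrArg (fun ψ => Scheme.Modules.Hom.app ψ ⊤ z) (kernel.condition φ)
    rw [map_zero, map_zero]
    exact this
  have : Epi φ := by
    refine Preadditive.epi_of_cokernel_zero ?_
    refine IsZero.eq_of_tgt (hz (QCoh.isQCoh_cokernel hM hN φ) fun z => ?_) _ _
    obtain ⟨y, rfl⟩ := QCoh.app_surjective_of_epi hN (QCoh.isQCoh_cokernel hM hN φ)
      (cokernel.π φ) (isAffineOpen_top X) z
    obtain ⟨w, rfl⟩ := h.2 y
    exact congrArg (fun ψ => Scheme.Modules.Hom.app ψ ⊤ w) (cokernel.condition φ)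
  exact isIso_of_mono_of_epi φ

/-- Maps out of a quasi-coherent module on an affine scheme are determined by global sections. -/
theorem hom_ext_top [IsAffine X] {M N : X.Modules} (hM : Coh.IsQCoh M) (hN : Coh.IsQCoh N)
    (a b : M ⟶ N) (h : ∀ x : Γ(M, (⊤ : X.Opens)), a.app ⊤ x = b.app ⊤ x) : a = b := by
  rw [← sub_eq_zero]
  have hz : IsZero (cokernel (kernel.ι (a - b))) := by
    refine QCoh.isZero_of_cover (QCoh.isQCoh_cokernel (QCoh.isQCoh_kernel hM hN _) hM _)
      (fun _ : PUnit.{1} => (⊤ : X.Opens)) (fun _ => isAffineOpen_top X) (fun _ => ⟨PUnit.unit, trivial⟩)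
      fun _ => subsingleton_of_forall_eq 0 fun z => ?_
    obtain ⟨y, rfl⟩ := QCoh.app_surjective_of_epi hM
      (QCoh.isQCoh_cokernel (QCoh.isQCoh_kernel hM hN _) hM _)
      (cokernel.π (kernel.ι (a - b))) (isAffineOpen_top X) z
    refine QCoh.app_injective (Abelian.factorThruCoimage (a - b)) ⊤ ?_
    rw [map_zero]
    refine (congrArg (fun ψ => Scheme.Modules.Hom.app ψ ⊤ y) (Abelian.coimage.fac (a - b))).trans ?_
    exact sub_eq_zero.mpr (h y)
  rw [← Abelian.coimage.fac (a - b), hz.eq_of_src (Abelian.factorThruCoimage (a - b)) 0, comp_zero]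

end Groth.Agent.FComplLib
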