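import Groth.Agent.ModPairLib.Basic
import Mathlib.AlgebraicGeometry.Morphisms.ClosedImmersion
import Mathlib.RingTheory.Nilpotent.Basic

/-!
# Inverse images of products of ideal sheaves, kernels of closed immersions
-/

universe u

open CategoryTheory CategoryTheory.Limits AlgebraicGeometry

namespace Groth.Agent.FComplLib

variable {X Y Z : Scheme.{u}}

theorem comap_mul (f : X ⟶ Y) (I J : Y.IdealSheafData) :
    (I * J).comap f = I.comap f * J.comap f := by
  have hex : ∀ x : X, ∃ (U : Y.affineOpens) (V : X.affineOpens), x ∈ V.1 ∧ V.1 ≤ f ⁻¹ᵁ U.1 := by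
    intro x
    obtain ⟨_, ⟨U, hU, rfl⟩, hxU, -⟩ := Y.isBasis_affineOpens.exists_subset_of_mem_open
      (Set.mem_univ (f x)) isOpen_univ
    obtain ⟨_, ⟨V, hV, rfl⟩, hxV, hVU⟩ := X.isBasis_affineOpens.exists_subset_of_mem_open
      (show x ∈ (f ⁻¹ᵁ U : Set X) from hxU) (f ⁻¹ᵁ U).isOpen
    exact ⟨⟨U, hU⟩, ⟨V, hV⟩, hxV, hVU⟩
  choose U V hx hUV using hex
  refine Scheme.IdealSheafData.ext_of_iSup_eq_top V
    (eq_top_iff.mpr fun x _ => TopologicalSpace.Opens.mem_iSup.mpr ⟨x, hx x⟩) fun x => ?_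
  simp only [Scheme.IdealSheafData.ideal_mul, Pi.mul_apply,
    ModPairLib.ideal_comap _ f (U x) (V x) (hUV x), Ideal.map_mul]

theorem comap_pow (f : X ⟶ Y) (I : Y.IdealSheafData) (n : ℕ) :
    (I ^ n).comap f = I.comap f ^ n := by
  induction n with
  | zero => simp
  | succ n ih => rw [pow_succ, pow_succ, comap_mul, ih]

theorem powCompat (f : X ⟶ Y) (I : Y.IdealSheafData) (n : ℕ) :
    (I ^ n).comap f ≤ I.comap f ^ n := (comap_pow f I n).le

/-- The kernel of a composite, restricted along the second map. -/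
theorem ker_comp_comap (j : Z ⟶ X) (i : X ⟶ Y) [IsClosedImmersion j] [IsClosedImmersion i] :
    (j ≫ i).ker.comap i = j.ker := by
  rw [← Scheme.IdealSheafData.ker_fst_of_isClosedImmersion]
  have hp : IsPullback j (𝟙 Z) i (j ≫ i) :=
    ⟨⟨by rw [Category.id_comp]⟩, ⟨PullbackCone.IsLimit.mk _ (fun s => s.snd)
      (fun s => by rw [← cancel_mono i, Category.assoc]; exact s.condition.symm)
      (fun s => Category.comp_id _)
      (fun s m _ h => by rw [← h, Category.comp_id])⟩⟩
  conv_rhs => rw [← hp.isoPullback_hom_fst, Scheme.Hom.ker_comp_of_isIso]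

theorem ker_self_comap (i : X ⟶ Y) [IsClosedImmersion i] : i.ker.comap i = ⊥ := by
  have := ker_comp_comap (𝟙 X) i
  rw [Category.id_comp] at this
  rw [this, Scheme.Hom.ker_eq_bot_of_isIso]

theorem ker_of_isPullback {P A B S : Scheme.{u}} {fst : P ⟶ A} {snd : P ⟶ B} {g : A ⟶ S}
    {i : B ⟶ S} (h : IsPullback fst snd g i) [IsClosedImmersion i] :
    fst.ker = i.ker.comap g := by
  rw [← h.isoPullback_hom_fst, Scheme.Hom.ker_comp_of_isIso,
    Scheme.IdealSheafData.ker_fst_of_isClosedImmersion]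

theorem ker_inclusion {I J : X.IdealSheafData} (h : I ≤ J) :
    (Scheme.IdealSheafData.inclusion h).ker = J.comap I.subschemeι := by
  have := IsClosedImmersion.of_comp (Scheme.IdealSheafData.inclusion h) I.subschemeι
  rw [← ker_comp_comap (Scheme.IdealSheafData.inclusion h) I.subschemeι,
    Scheme.IdealSheafData.inclusion_subschemeι, Scheme.IdealSheafData.ker_subschemeι]

theorem ideal_ker (i : X ⟶ Y) [IsClosedImmersion i] (U : Y.affineOpens) :
    i.ker.ideal U = RingHom.ker (i.app U.1).hom :=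
  Scheme.Hom.ker_apply i U

/-- The ideal defining a closed immersion that is surjective on points is nil. -/
theorem ideal_le_nilradical {I : Y.IdealSheafData} (h : I.support = ⊤) (U : Y.affineOpens) :
    I.ideal U ≤ nilradical _ := by
  intro a ha
  rw [nilradical_eq_sInf, Ideal.mem_sInf]
  intro q hq
  let x : PrimeSpectrum Γ(Y, U.1) := ⟨q, hq⟩
  have hx : U.2.fromSpec x ∈ (I.support : Set Y) := by rw [h]; trivial
  have hxU : U.2.fromSpec x ∈ U.1 := U.2.range_fromSpec.le ⟨x, rfl⟩
  rw [SetLike.mem_coe, Scheme.IdealSheafData.mem_support_iff_of_mem (U := U) hxU] at hx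
  have h2 : x ∈ PrimeSpectrum.zeroLocus (I.ideal U : Set Γ(Y, U.1)) := by
    rw [← U.2.fromSpec_preimage_zeroLocus]
    exact hx
  exact h2 ha

end Groth.Agent.FComplLib
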