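import Groth.Agent.FComplLib.Sys
import Groth.Agent.MorLib.Thick.Mor
import Groth.Agent.H23.SepCrit
import Mathlib.AlgebraicGeometry.Morphisms.Finite
import Mathlib.AlgebraicGeometry.Morphisms.Proper
import Mathlib.RingTheory.Noetherian.Nilpotent

/-!
# Properties of morphisms across thickenings
-/

universe u

open CategoryTheory CategoryTheory.Limits AlgebraicGeometry

namespace Groth.Agent.FComplLib

variable {X Y X₀ Y₀ : Scheme.{u}} {f : X ⟶ Y} {f₀ : X₀ ⟶ Y₀} {iX : X₀ ⟶ X} {iY : Y₀ ⟶ Y}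

theorem isSeparated_iff_of_thickening [IsClosedImmersion iX] [Surjective iX] [IsClosedImmersion iY]
    (h : f₀ ≫ iY = iX ≫ f) : IsSeparated f ↔ IsSeparated f₀ := by
  have e := H23.SepCrit.isSeparated_iff_closed_cover f (ι := Unit) (fun _ => X₀) (fun _ => iX)
    fun x => ⟨(), iX.surjective x⟩
  rw [e]
  constructor
  · intro h'
    have := h' ()
    rw [← h] at this
    exact IsSeparated.of_comp f₀ iY
  · intro h' _
    rw [← h]
    infer_instance

theorem isClosedImmersion_of_thickening (sq : IsPullback iX f₀ f iY) [IsClosedImmersion iY]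
    [Surjective iX] {m : ℕ} (hm : iY.ker ^ m = ⊥) [IsClosedImmersion f₀] :
    IsClosedImmersion f := by
  have : IsClosedImmersion iX := MorphismProperty.of_isPullback sq.flip ‹IsClosedImmersion iY›
  have haff : IsAffineHom f := (MorLib.Thick.isAffineHom_iff iX iY f₀ f sq.w).mp inferInstance
  refine isClosedImmersion_iff_isAffineHom.mpr ⟨haff, fun U hU => ?_⟩
  have hV : IsAffineOpen (f ⁻¹ᵁ U) := hU.preimage f
  refine surjective_of_nilpotent (f.app U).hom (iY.ker.ideal ⟨U, hU⟩) (m := m) ?_ fun q => ?_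
  · exact congrFun (congrArg Scheme.IdealSheafData.ideal hm) ⟨U, hU⟩
  obtain ⟨b, rfl⟩ := Ideal.Quotient.mk_surjective q
  have : IsClosedImmersion (iX ≫ f) := by rw [sq.w]; infer_instance
  obtain ⟨a, ha⟩ := (iX ≫ f).app_surjective U hU (iX.app (f ⁻¹ᵁ U) b)
  refine ⟨a, Ideal.Quotient.eq.mpr ?_⟩
  have hker := ideal_ker iX ⟨f ⁻¹ᵁ U, hV⟩
  rw [ker_of_isPullback sq, ModPairLib.ideal_comap _ f ⟨U, hU⟩ ⟨_, hV⟩ le_rfl,
    ← Scheme.Hom.app_eq_appLE] at hker
  rw [hker, RingHom.mem_ker, map_sub, sub_eq_zero]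
  exact ha

theorem locallyOfFiniteType_of_nilpotent [IsClosedImmersion iX]
    (hK : ∀ (U : Y.affineOpens) (V : X.affineOpens), V.1 ≤ f ⁻¹ᵁ U.1 →
      (iX.ker.ideal V).FG ∧ ∃ m, iX.ker.ideal V ^ m = ⊥)
    [LocallyOfFiniteType (iX ≫ f)] : LocallyOfFiniteType f := by
  refine ⟨fun {U} hU {V} hV e => ?_⟩
  obtain ⟨hfg, m, hm⟩ := hK ⟨U, hU⟩ ⟨V, hV⟩ e
  refine finiteType_of_nilpotent (f.appLE U V e).hom _ hfg hm ?_
  rw [ideal_ker]
  have hs : Function.Surjective (iX.app V).hom := iX.app_surjective V hV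
  have h1 : ((iX ≫ f).appLE U (iX ⁻¹ᵁ V) (fun x hx => e hx)).hom.FiniteType :=
    (iX ≫ f).finiteType_appLE hU (hV.preimage iX) _
  have h2 : (iX ≫ f).appLE U (iX ⁻¹ᵁ V) (fun x hx => e hx) = f.appLE U V e ≫ iX.app V := by
    rw [iX.app_eq_appLE]
    exact (Scheme.Hom.appLE_comp_appLE iX f U V _ e le_rfl).symm
  rw [h2, CommRingCat.hom_comp] at h1
  have h3 : (Ideal.Quotient.mk (RingHom.ker (iX.app V).hom)).comp (f.appLE U V e).hom =
      ((RingHom.quotientKerEquivOfSurjective hs).symm.toRingHom.comp (iX.app V).hom).comp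
        (f.appLE U V e).hom := by
    refine RingHom.ext fun a => (RingHom.quotientKerEquivOfSurjective hs).injective ?_
    exact (RingHom.quotientKerEquivOfSurjective hs).apply_symm_apply _ |>.symm
  rw [h3, RingHom.comp_assoc]
  exact RingHom.FiniteType.comp
    (RingHom.FiniteType.of_surjective _ (RingHom.quotientKerEquivOfSurjective hs).symm.surjective) h1

theorem locallyOfFiniteType_of_thickening (sq : IsPullback iX f₀ f iY) [IsClosedImmersion iY]
    [Surjective iY] [IsLocallyNoetherian Y] [LocallyOfFiniteType f₀] :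
    LocallyOfFiniteType f := by
  have : IsClosedImmersion iX := MorphismProperty.of_isPullback sq.flip ‹IsClosedImmersion iY›
  have : LocallyOfFiniteType (iX ≫ f) := by rw [sq.w]; infer_instance
  refine locallyOfFiniteType_of_nilpotent (iX := iX) fun U V e => ?_
  have hfg : (iY.ker.ideal U).FG := (IsLocallyNoetherian.component_noetherian U).noetherian _
  have hsupp : iY.ker.support = ⊤ := by
    ext1
    rw [Scheme.Hom.support_ker, Set.range_eq_univ.mpr iY.surjective, closure_univ]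
    rfl
  obtain ⟨m, hm⟩ := (Ideal.FG.isNilpotent_iff_le_nilradical hfg).mpr (ideal_le_nilradical hsupp U)
  rw [ker_of_isPullback sq, ModPairLib.ideal_comap _ f U V e]
  exact ⟨hfg.map _, m, by rw [← Ideal.map_pow, hm, Ideal.zero_eq_bot, Ideal.map_bot]⟩

end Groth.Agent.FComplLib
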