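import Groth.Agent.QCoh.ClosedPush
import Groth.Agent.QCoh.Support
import Groth.Agent.FComplLib.IdealComap
import Mathlib.RingTheory.Filtration
import Mathlib.RingTheory.Nakayama
import Mathlib.CategoryTheory.Abelian.Basic

/-!
# Coherent modules vanishing on all thickenings of a closed subset
-/

universe u

open CategoryTheory CategoryTheory.Limits AlgebraicGeometry TopologicalSpace Opposite

namespace Groth.Agent.FComplLib

variable {X : Scheme.{u}}

theorem isZero_restrict_of_subsingleton_stalk (C : X.Modules) (O : X.Opens)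
    (h : ∀ x ∈ O, Subsingleton (C.presheaf.stalk x)) :
    IsZero ((Scheme.Modules.restrictFunctor O.ι).obj C) := by
  rw [IsZero.iff_id_eq_zero]
  refine Scheme.Modules.hom_ext _ _ fun V => ?_
  ext s
  have hz : ∀ t : Γ(C, O.ι ''ᵁ V), t = 0 := fun t => by
    refine QCoh.eq_zero_of_locally _ t fun p hp => ?_
    have hpO : p ∈ O := by
      obtain ⟨q, -, rfl⟩ := hp
      exact q.2
    obtain ⟨W, hpW, i, j, e⟩ := C.presheaf.germ_eq p hp hp t 0 ((h p hpO).elim _ _)
    exact ⟨W, i, hpW, e.trans (map_zero _)⟩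
  exact (hz s).trans (hz _).symm

theorem app_mem_of_pullback_map_eq_zero {F G : X.Modules} (hG : Coh.IsQCoh G) (u : F ⟶ G)
    {Z : Scheme.{u}} (i : Z ⟶ X) [IsClosedImmersion i]
    (h : (Scheme.Modules.pullback i).map u = 0) {U : X.Opens} (hU : IsAffineOpen U) (y : Γ(F, U)) :
    u.app U y ∈ i.ker.ideal ⟨U, hU⟩ • (⊤ : Submodule Γ(X, U) Γ(G, U)) := by
  have h0 : u ≫ (Scheme.Modules.pullbackPushforwardAdjunction i).unit.app G = 0 := by
    refine ((Scheme.Modules.pullbackPushforwardAdjunction i).unit.naturality u).trans ?_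
    rw [Functor.comp_map, h]
    simp
  refine ((QCoh.unit_app_closed i hG hU).2 _).1 ?_
  exact congrArg (fun φ => Scheme.Modules.Hom.app φ U y) h0

/-- A map of coherent modules that vanishes on every thickening of `supp J` vanishes near it. -/
theorem exists_nhd_restrict_eq_zero [IsLocallyNoetherian X] {F G : X.Modules} (hF : Coh.IsCoh F)
    (hG : Coh.IsCoh G) (u : F ⟶ G) (J : X.IdealSheafData)
    (h : ∀ n : ℕ, (Scheme.Modules.pullback (J ^ (n + 1)).subschemeι).map u = 0) :
    ∃ U : X.Opens, (J.support : Set X) ⊆ U ∧ (Scheme.Modules.restrictFunctor U.ι).map u = 0 := by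
  set C := Abelian.coimage u
  set π : F ⟶ C := Abelian.coimage.π u
  set j : C ⟶ G := Abelian.factorThruCoimage u
  have hfac : π ≫ j = u := Abelian.coimage.fac u
  have hK : Coh.IsQCoh (kernel u) := QCoh.isQCoh_kernel hF.1 hG.1 u
  have hC : Coh.IsCoh C := QCoh.isCoh_cokernel hK hF (kernel.ι u)
  have : Mono j := inferInstanceAs (Mono (Abelian.factorThruCoimage u))
  have : Epi π := inferInstanceAs (Epi (Abelian.coimage.π u))
  let O : X.Opens := ⟨(CohB1.support C)ᶜ, (QCoh.isClosed_support_of_isFT hC.1 hC.2).isOpen_compl⟩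
  refine ⟨O, fun x hx hxs => ?_, ?_⟩
  · obtain ⟨_, ⟨U, hU, rfl⟩, hxU, -⟩ :=
      X.isBasis_affineOpens.exists_subset_of_mem_open (Set.mem_univ x) isOpen_univ
    have hU' : IsAffineOpen U := hU
    have := QCoh.noetherian_sections (X := X) ⟨U, hU'⟩
    have := QCoh.finite_sections hG hU'
    refine hxs ((QCoh.subsingleton_stalk_iff hC.1 hU' hxU).2 fun m => ?_)
    obtain ⟨y, rfl⟩ := QCoh.app_surjective_of_epi hF.1 hC.1 π hU' m
    have hmem : u.app U y ∈ (⨅ n : ℕ, J.ideal ⟨U, hU'⟩ ^ n • ⊤ : Submodule Γ(X, U) Γ(G, U)) := by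
      rw [Submodule.mem_iInf]
      intro n
      cases n with
      | zero => simp
      | succ n =>
        have hm := app_mem_of_pullback_map_eq_zero hG.1 u _ (h n) hU' y
        rwa [Scheme.IdealSheafData.ker_subschemeι, Scheme.IdealSheafData.ideal_pow, Pi.pow_apply] at hm
    obtain ⟨r, hr⟩ := (Ideal.mem_iInf_smul_pow_eq_bot_iff _ _).1 hmem
    refine ⟨1 - (r : Γ(X, U)), ?_, ?_⟩
    · have hrx : x ∉ X.basicOpen (r : Γ(X, U)) := by
        rw [SetLike.mem_coe, Scheme.IdealSheafData.mem_support_iff_of_mem (U := ⟨U, hU'⟩) hxU,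
          Scheme.mem_zeroLocus_iff] at hx
        exact hx _ r.2
      rw [X.mem_basicOpen _ x hxU] at hrx ⊢
      rw [map_sub, map_one]
      exact IsLocalRing.isUnit_one_sub_self_of_mem_nonunits _ hrx
    · refine QCoh.app_injective j U ?_
      rw [map_zero, Scheme.Modules.Hom.app_smul]
      have e : j.app U (π.app U y) = u.app U y := congrArg (fun φ => Scheme.Modules.Hom.app φ U y) hfac
      rw [e, sub_smul, one_smul, hr, sub_self]
  · have hz : IsZero ((Scheme.Modules.restrictFunctor O.ι).obj C) :=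
      isZero_restrict_of_subsingleton_stalk C O fun x hx => not_not.1 hx
    rw [← hfac, Functor.map_comp]
    rw [hz.eq_of_src ((Scheme.Modules.restrictFunctor O.ι).map j) 0, comp_zero]

theorem exists_nhd_mono [IsLocallyNoetherian X] {F G : X.Modules} (hF : Coh.IsCoh F)
    (hG : Coh.IsCoh G) (u : F ⟶ G) (J : X.IdealSheafData)
    (h : ∀ n : ℕ, (Scheme.Modules.pullback (J ^ (n + 1)).subschemeι).map (kernel.ι u) = 0) :
    ∃ U : X.Opens, (J.support : Set X) ⊆ U ∧ Mono ((Scheme.Modules.restrictFunctor U.ι).map u) := by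
  obtain ⟨U, hU, h0⟩ := exists_nhd_restrict_eq_zero (QCoh.isCoh_kernel hF hG u) hF (kernel.ι u) J h
  refine ⟨U, hU, Abelian.mono_of_kernel_ι_eq_zero _ ?_⟩
  rw [← cancel_epi (PreservesKernel.iso (Scheme.Modules.restrictFunctor U.ι) u).hom, comp_zero,
    PreservesKernel.iso_hom, kernelComparison_comp_ι, h0]

theorem exists_nhd_epi [IsLocallyNoetherian X] {F G : X.Modules} (hF : Coh.IsCoh F)
    (hG : Coh.IsCoh G) (u : F ⟶ G) (J : X.IdealSheafData)
    (h : ∀ n : ℕ, (Scheme.Modules.pullback (J ^ (n + 1)).subschemeι).map (cokernel.π u) = 0) :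
    ∃ U : X.Opens, (J.support : Set X) ⊆ U ∧ Epi ((Scheme.Modules.restrictFunctor U.ι).map u) := by
  obtain ⟨U, hU, h0⟩ := exists_nhd_restrict_eq_zero hG (QCoh.isCoh_cokernel hF.1 hG u) (cokernel.π u) J h
  refine ⟨U, hU, Abelian.epi_of_cokernel_π_eq_zero _ ?_⟩
  rw [← cancel_mono (PreservesCokernel.iso (Scheme.Modules.restrictFunctor U.ι) u).inv, zero_comp,
    PreservesCokernel.iso_inv, π_comp_cokernelComparison, h0]

/-- Nakayama along a thickening. -/
theorem epi_of_epi_pullback {X₀ : Scheme.{u}} (i : X₀ ⟶ X) [IsClosedImmersion i] [Surjective i]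
    {F G : X.Modules} (hF : Coh.IsQCoh F) (hG : Coh.IsQCoh G) (hft : CohB1.IsFT G) (u : F ⟶ G)
    [Epi ((Scheme.Modules.pullback i).map u)] : Epi u := by
  refine Abelian.epi_of_cokernel_π_eq_zero _ ?_
  have hC := QCoh.isQCoh_cokernel hF hG u
  have h0 : (Scheme.Modules.pullback i).map (cokernel.π u) = 0 := by
    rw [← cancel_epi ((Scheme.Modules.pullback i).map u), comp_zero, ← Functor.map_comp,
      cokernel.condition]
    simp
  refine IsZero.eq_of_tgt ?_ _ _
  refine QCoh.isZero_of_cover hC (fun U : X.affineOpens => U.1) (fun U => U.2) (fun x => ?_)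
    fun U => subsingleton_of_forall_eq 0 ?_
  · obtain ⟨_, ⟨U, hU, rfl⟩, hxU, -⟩ :=
      X.isBasis_affineOpens.exists_subset_of_mem_open (Set.mem_univ x) isOpen_univ
    exact ⟨⟨U, hU⟩, hxU⟩
  have := QCoh.finite_of_isFT hG hft U.2
  let l : Γ(G, U.1) →ₗ[Γ(X, U.1)] Γ(cokernel u, U.1) :=
    { toFun := (cokernel.π u).app U.1
      map_add' := map_add _
      map_smul' := Scheme.Modules.Hom.app_smul _ }
  have hsur : Function.Surjective l := QCoh.app_surjective_of_epi hG hC (cokernel.π u) U.2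
  have := Module.Finite.of_surjective l hsur
  have hsupp : i.ker.support = ⊤ := by
    ext1
    rw [Scheme.Hom.support_ker, Set.range_eq_univ.mpr i.surjective, closure_univ]
    rfl
  have htop : (⊤ : Submodule Γ(X, U.1) Γ(cokernel u, U.1)) = ⊥ := by
    refine Submodule.eq_bot_of_le_smul_of_le_jacobson_bot (i.ker.ideal U) _ Module.Finite.fg_top ?_ ?_
    · intro z _
      obtain ⟨y, rfl⟩ := hsur z
      exact app_mem_of_pullback_map_eq_zero hC (cokernel.π u) i h0 U.2 y
    · exact (ideal_le_nilradical hsupp U).trans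
        (Ideal.radical_le_jacobson (I := (⊥ : Ideal Γ(X, U.1))))
  exact fun z => (Submodule.mem_bot Γ(X, U.1)).1 (htop ▸ Submodule.mem_top)

end Groth.Agent.FComplLib
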