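import Mathlib.RingTheory.AdicCompletion.Algebra
import Mathlib.RingTheory.AdicCompletion.Completeness
import Mathlib.RingTheory.AdicCompletion.AsTensorProduct
import Mathlib.RingTheory.Nilpotent.Basic
import Mathlib.RingTheory.AdicCompletion.LocalRing
import Groth.Agent.LocalCrit.Complete
import Groth.Prelude.Def_FSch3

/-!
# Units, kernels and functoriality for adic completions of rings
-/

universe u

namespace Groth.Agent.FComplLib

open AdicCompletion

variable {R : Type u} [CommRing R] (I : Ideal R)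

theorem evalₐ_algebraMap (n : ℕ) (r : R) :
    evalₐ I n (algebraMap R (AdicCompletion I R) r) = Ideal.Quotient.mk (I ^ n) r :=
  (evalₐ I n).commutes r

/-- An element of the completion of a ring is a unit when it is one modulo `I`. -/
theorem isUnit_of_isUnit_evalₐ_one (x : AdicCompletion I R) (hx : IsUnit (evalₐ I 1 x)) :
    IsUnit x := by
  obtain ⟨y, rfl⟩ := AdicCompletion.mk_surjective I R x
  rw [evalₐ_mk] at hx
  obtain ⟨w, hw⟩ := hx.exists_right_inv
  obtain ⟨w, rfl⟩ := Ideal.Quotient.mk_surjective w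
  rw [← map_mul, ← map_one (Ideal.Quotient.mk (I ^ 1)), Ideal.Quotient.eq, pow_one] at hw
  have hy : ∀ {m n : ℕ}, m ≤ n → (y : ℕ → R) m - (y : ℕ → R) n ∈ I ^ m := by
    intro m n h
    simpa [SModEq.sub_mem, Ideal.mul_top] using y.2 h
  have hex : ∀ n : ℕ, ∃ z : R, (y : ℕ → R) n * z - 1 ∈ I ^ n := by
    intro n
    rcases Nat.eq_zero_or_pos n with rfl | hn
    · exact ⟨0, by simp⟩
    have ha : (y : ℕ → R) n * w - 1 ∈ I := by
      have h1 : (y : ℕ → R) 1 - (y : ℕ → R) n ∈ I := by simpa using hy hn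
      have e : (y : ℕ → R) n * w - 1 =
          ((y : ℕ → R) 1 * w - 1) - ((y : ℕ → R) 1 - (y : ℕ → R) n) * w := by ring
      rw [e]
      exact sub_mem hw (Ideal.mul_mem_right _ _ h1)
    have hnil : IsNilpotent (Ideal.Quotient.mk (I ^ n) ((y : ℕ → R) n * w - 1)) :=
      ⟨n, by rw [← map_pow, Ideal.Quotient.eq_zero_iff_mem]; exact Ideal.pow_mem_pow ha n⟩
    obtain ⟨v, hv⟩ := hnil.isUnit_one_add.exists_right_inv
    obtain ⟨v, rfl⟩ := Ideal.Quotient.mk_surjective v
    refine ⟨w * v, ?_⟩
    rw [← map_one (Ideal.Quotient.mk (I ^ n)), ← map_add, ← map_mul, Ideal.Quotient.eq] at hv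
    convert hv using 1
    ring
  choose z hz using hex
  have hcau : AdicCompletion.IsAdicCauchy I R z := by
    intro m n h
    rw [SModEq.sub_mem, smul_eq_mul, Ideal.mul_top]
    have e : z m - z n = z n * ((y : ℕ → R) m * z m - 1) -
        z m * ((y : ℕ → R) n * z n - 1) - z m * z n * ((y : ℕ → R) m - (y : ℕ → R) n) := by ring
    rw [e]
    exact sub_mem (sub_mem (Ideal.mul_mem_left _ _ (hz m))
      (Ideal.mul_mem_left _ _ (Ideal.pow_le_pow_right h (hz n)))) (Ideal.mul_mem_left _ _ (hy h))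
  refine IsUnit.of_mul_eq_one (AdicCompletion.mk I R ⟨z, hcau⟩) ?_
  refine AdicCompletion.ext_evalₐ fun n => ?_
  rw [map_mul, evalₐ_mk, evalₐ_mk, map_one, ← map_mul,
    ← map_one (Ideal.Quotient.mk (I ^ n)), Ideal.Quotient.eq]
  exact hz n

theorem evalₐ_eq_zero_iff (hI : I.FG) (n : ℕ) (x : AdicCompletion I R) :
    evalₐ I n x = 0 ↔ x ∈ (I ^ n).map (algebraMap R (AdicCompletion I R)) := by
  have h0 : x ∈ (I ^ n • ⊤ : Submodule R (AdicCompletion I R)) ↔ eval I R n x = 0 := by
    rw [AdicCompletion.pow_smul_top_eq_ker_eval hI, LinearMap.mem_ker]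
  rw [Ideal.smul_top_eq_map, Submodule.restrictScalars_mem] at h0
  rw [h0]
  obtain ⟨y, rfl⟩ := AdicCompletion.mk_surjective I R x
  rw [evalₐ_mk, Ideal.Quotient.eq_zero_iff_mem, eval_apply, mk_apply_coe,
    Submodule.mkQ_apply, Submodule.Quotient.mk_eq_zero]
  simp

theorem isNoetherianRing_adicCompletion [IsNoetherianRing R] :
    IsNoetherianRing (AdicCompletion I R) := by
  have hI : I.FG := IsNoetherian.noetherian I
  set K := I.map (algebraMap R (AdicCompletion I R))
  have : IsAdicComplete K (AdicCompletion I R) := AdicCompletion.isAdicComplete_self I hI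
  have : IsNoetherianRing (AdicCompletion I R ⧸ K) := by
    refine isNoetherianRing_of_surjective R _ ((Ideal.Quotient.mk K).comp (algebraMap R _))
      fun q => ?_
    obtain ⟨x, rfl⟩ := Ideal.Quotient.mk_surjective q
    obtain ⟨r, hr⟩ := Ideal.Quotient.mk_surjective (evalOneₐ I x)
    refine ⟨r, Ideal.Quotient.eq.mpr ?_⟩
    rw [show K = _ from (AdicCompletion.ker_evalOneₐ_eq_map I hI).symm, RingHom.mem_ker, map_sub,
      sub_eq_zero]
    exact ((evalOneₐ I).commutes r).trans hr
  exact LocalCrit.isNoetherianRing_of_isAdicComplete K (hI.map _)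

section Functorial

variable {S T : Type u} [CommRing S] [CommRing T] (IS : Ideal S) (IT : Ideal T)

theorem evalₐ_complMap (g : R →+* S) (h : I.map g ≤ IS) (n : ℕ) (x : AdicCompletion I R) :
    evalₐ IS n (FSch.complMap I IS g h x) =
      Ideal.quotientMap (IS ^ n) g (FSch.pow_le_comap_pow_of_map_le I IS g h n) (evalₐ I n x) := by
  unfold FSch.complMap
  generalize_proofs
  exact AdicCompletion.evalₐ_liftRingHom IS
    (fun n => (Ideal.quotientMap (IS ^ n) g
      (FSch.pow_le_comap_pow_of_map_le I IS g h n)).comp (evalₐ I n).toRingHom) (by assumption) n x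

theorem complMap_algebraMap (g : R →+* S) (h : I.map g ≤ IS) (r : R) :
    FSch.complMap I IS g h (algebraMap R _ r) = algebraMap S _ (g r) := by
  refine AdicCompletion.ext_evalₐ fun n => ?_
  rw [evalₐ_complMap, evalₐ_algebraMap, evalₐ_algebraMap, Ideal.quotientMap_mk]

theorem complMap_comp (g : R →+* S) (k : S →+* T) (l : R →+* T) (hl : k.comp g = l)
    (h : I.map g ≤ IS) (h' : IS.map k ≤ IT) (h'' : I.map l ≤ IT) :
    (FSch.complMap IS IT k h').comp (FSch.complMap I IS g h) = FSch.complMap I IT l h'' := by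
  subst hl
  refine RingHom.ext fun x => AdicCompletion.ext_evalₐ fun n => ?_
  rw [RingHom.comp_apply, evalₐ_complMap, evalₐ_complMap, evalₐ_complMap]
  obtain ⟨r, hr⟩ := Ideal.Quotient.mk_surjective (evalₐ I n x)
  rw [← hr, Ideal.quotientMap_mk, Ideal.quotientMap_mk, Ideal.quotientMap_mk, RingHom.comp_apply]

end Functorial

end Groth.Agent.FComplLib
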