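import Groth.Agent.FComplLib.Sys
import Mathlib.RingTheory.Spectrum.Prime.Topology

/-!
# Formal spectra are formal schemes
-/

universe u

open CategoryTheory CategoryTheory.Limits AlgebraicGeometry

namespace Groth.Agent.FComplLib

open FSch

theorem ker_specMap_ideal {R S : Type u} [CommRing R] [CommRing S] (φ : R →+* S)
    (hφ : Function.Surjective φ) :
    (Spec.map (CommRingCat.ofHom φ)).ker.ideal ⟨⊤, isAffineOpen_top _⟩ =
      (RingHom.ker φ).map (Scheme.ΓSpecIso (CommRingCat.of R)).inv.hom := by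
  have := IsClosedImmersion.spec_of_surjective (CommRingCat.ofHom φ) hφ
  rw [ideal_ker]
  have hb : Function.Bijective (Scheme.ΓSpecIso (CommRingCat.of R)).inv.hom :=
    (Scheme.ΓSpecIso (CommRingCat.of R)).symm.commRingCatIsoToRingEquiv.bijective
  have hb' : Function.Injective (Scheme.ΓSpecIso (CommRingCat.of S)).inv.hom :=
    (Scheme.ΓSpecIso (CommRingCat.of S)).symm.commRingCatIsoToRingEquiv.injective
  have key : ∀ a, ((Spec.map (CommRingCat.ofHom φ)).app ⊤).hom
      ((Scheme.ΓSpecIso (CommRingCat.of R)).inv.hom a) =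
      (Scheme.ΓSpecIso (CommRingCat.of S)).inv.hom (φ a) := fun a => by
    have h := congrArg (fun g => g.hom a) (Scheme.ΓSpecIso_inv_naturality (CommRingCat.ofHom φ))
    simp only [CommRingCat.hom_comp, RingHom.comp_apply, CommRingCat.hom_ofHom] at h
    exact h.symm
  refine le_antisymm (fun z hz => ?_) (Ideal.map_le_iff_le_comap.2 fun a ha => ?_)
  · obtain ⟨a, rfl⟩ := hb.2 z
    refine Ideal.mem_map_of_mem _ (hb' ?_)
    rw [map_zero, ← key]
    exact hz
  · rw [Ideal.mem_comap, RingHom.mem_ker]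
    exact (key a).trans ((congrArg _ (show φ a = 0 from ha)).trans (map_zero _))

theorem ker_specMap_eq_pow {R S T : Type u} [CommRing R] [CommRing S] [CommRing T] (φ : R →+* S)
    (ψ : R →+* T) (hφ : Function.Surjective φ) (hψ : Function.Surjective ψ) (k : ℕ)
    (h : RingHom.ker φ = RingHom.ker ψ ^ k) :
    (Spec.map (CommRingCat.ofHom φ)).ker = (Spec.map (CommRingCat.ofHom ψ)).ker ^ k := by
  refine Scheme.IdealSheafData.ext_of_isAffine ?_
  rw [Scheme.IdealSheafData.ideal_pow, Pi.pow_apply, ker_specMap_ideal φ hφ,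
    ker_specMap_ideal ψ hψ, h, Ideal.map_pow]

variable (A : Type u) [CommRing A] (I : Ideal A)

theorem specQuotTrans_comp (n : ℕ) :
    Spec.map (CommRingCat.ofHom (Ideal.Quotient.factor
      (Ideal.pow_le_pow_right (Nat.le_add_left 1 n) : I ^ (n + 1) ≤ I ^ (0 + 1)))) ≫
      CohB1.specQuotTrans I n =
    Spec.map (CommRingCat.ofHom (Ideal.Quotient.factor
      (Ideal.pow_le_pow_right (Nat.le_add_left 1 (n + 1)) : I ^ (n + 1 + 1) ≤ I ^ (0 + 1)))) := by
  rw [CohB1.specQuotTrans, ← Spec.map_comp, ← CommRingCat.ofHom_comp, Ideal.Quotient.factor_comp]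

theorem spf_toX : ∀ n : ℕ, (spf A I).toX n = Spec.map (CommRingCat.ofHom
    (Ideal.Quotient.factor (Ideal.pow_le_pow_right (Nat.le_add_left 1 n) :
      I ^ (n + 1) ≤ I ^ (0 + 1))))
  | 0 => by
    refine Eq.trans ?_ (congrArg (fun φ => Spec.map (CommRingCat.ofHom φ))
      (Ideal.Quotient.factor_eq).symm)
    exact (Spec.map_id _).symm
  | n + 1 => (congrArg (fun t => t ≫ (spf A I).ι n) (spf_toX n)).trans (specQuotTrans_comp A I n)

theorem isFormal_spf : (spf A I).IsFormal := fun n => by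
  have hsurj : Function.Surjective (Ideal.Quotient.factor
      (Ideal.pow_le_pow_right (Nat.le_succ (n + 1)) : I ^ (n + 2) ≤ I ^ (n + 1))) :=
    Ideal.Quotient.factor_surjective _
  refine ⟨IsClosedImmersion.spec_of_surjective (CommRingCat.ofHom _) hsurj, fun x => ?_⟩
  let φ := Ideal.Quotient.factor
    (Ideal.pow_le_pow_right (Nat.le_succ (n + 1)) : I ^ (n + 2) ≤ I ^ (n + 1))
  have hker : RingHom.ker φ ≤ (x : PrimeSpectrum (A ⧸ I ^ (n + 2))).asIdeal := by
    intro a ha
    obtain ⟨r, rfl⟩ := Ideal.Quotient.mk_surjective a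
    have hr : r ∈ I ^ (n + 1) := Ideal.Quotient.eq_zero_iff_mem.mp ha
    refine (x : PrimeSpectrum (A ⧸ I ^ (n + 2))).isPrime.mem_of_pow_mem 2 ?_
    rw [← map_pow, Ideal.Quotient.eq_zero_iff_mem.mpr (Ideal.pow_le_pow_right (by omega)
      (by rw [pow_mul]; exact Ideal.pow_mem_pow hr 2 : r ^ 2 ∈ I ^ ((n + 1) * 2)))]
    exact zero_mem _
  have : (x : PrimeSpectrum (A ⧸ I ^ (n + 2))) ∈ Set.range (PrimeSpectrum.comap φ) := by
    rw [range_comap_of_surjective _ _ hsurj]
    exact hker
  exact this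

theorem isAdic_spf : (spf A I).IsAdic := fun n => by
  rw [spf_toX]
  refine ker_specMap_eq_pow _ _ (Ideal.Quotient.factor_surjective _)
    (Ideal.Quotient.factor_surjective _) (n + 1) ?_
  rw [Ideal.Quotient.factor_ker, Ideal.Quotient.factor_ker, ← Ideal.map_pow, zero_add, pow_one]

theorem isLocNoethFormal_spf [IsNoetherianRing A] : (spf A I).IsLocNoethFormal :=
  ⟨isFormal_spf A I, isAdic_spf A I, fun n =>
    show IsLocallyNoetherian (Spec (CommRingCat.of (A ⧸ I ^ (n + 1)))) by infer_instance⟩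

end Groth.Agent.FComplLib
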