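import Groth.Agent.FComplLib.AffMod
import Groth.Agent.FComplLib.Spf
import Groth.Agent.Adic7.Limit
import Groth.Agent.AdicLib.Basic
import Groth.Agent.QCoh.Pullback

/-!
# Coherent systems on the completion of an affine Noetherian scheme
-/

universe u

open CategoryTheory CategoryTheory.Limits AlgebraicGeometry TopologicalSpace Opposite

namespace Groth.Agent.FComplLib

theorem map_mem_smul_top {R S M P : Type*} [CommRing R] [CommRing S] [AddCommGroup M] [Module R M]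
    [AddCommGroup P] [Module S P] (τ : R →+* S) (θ : M →+ P) (hθ : ∀ r m, θ (r • m) = τ r • θ m)
    (J : Ideal R) {m : M} (hm : m ∈ J • (⊤ : Submodule R M)) :
    θ m ∈ J.map τ • (⊤ : Submodule S P) := by
  refine Submodule.smul_induction_on (p := fun m => θ m ∈ J.map τ • (⊤ : Submodule S P)) hm
    (fun r hr n _ => ?_) fun a b ha hb => ?_
  · rw [hθ]; exact Submodule.smul_mem_smul (Ideal.mem_map_of_mem τ hr) trivial
  · rw [map_add]; exact add_mem ha hb

theorem exists_mem_smul_top {R S M P : Type*} [CommRing R] [CommRing S] [AddCommGroup M] [Module R M]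
    [AddCommGroup P] [Module S P] (τ : R →+* S) (hτ : Function.Surjective τ) (θ : M →+ P)
    (hθs : Function.Surjective θ) (hθ : ∀ r m, θ (r • m) = τ r • θ m)
    (J : Ideal R) {y : P} (hy : y ∈ J.map τ • (⊤ : Submodule S P)) :
    ∃ m ∈ J • (⊤ : Submodule R M), θ m = y := by
  refine Submodule.smul_induction_on (p := fun y => ∃ m ∈ J • (⊤ : Submodule R M), θ m = y) hy
    (fun s hs n _ => ?_) fun a b ha hb => ?_
  · obtain ⟨r, hr, rfl⟩ := (Ideal.mem_map_iff_of_surjective τ hτ).mp hs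
    obtain ⟨m, rfl⟩ := hθs n
    exact ⟨r • m, Submodule.smul_mem_smul hr trivial, hθ r m⟩
  · obtain ⟨a, ha, rfl⟩ := ha
    obtain ⟨b, hb, rfl⟩ := hb
    exact ⟨a + b, add_mem ha hb, map_add θ a b⟩

variable {A : Type u} [CommRing A] {I : Ideal A} {𝔛 : FSch.Sys.{u}}

/-- `𝔛` is the completion of `Spec A` along `I`, presented through maps `p n`. -/
structure AffData (A : Type u) [CommRing A] (I : Ideal A) (𝔛 : FSch.Sys.{u}) where
  /-- The maps to `Spec A`. -/
  p : ∀ n, 𝔛.X n ⟶ Spec (CommRingCat.of A)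
  cl : ∀ n, IsClosedImmersion (p n)
  comm : ∀ n, 𝔛.ι n ≫ p (n + 1) = p n
  ker : ∀ n, (p n).ker = FSch.idealSpec A I ^ (n + 1)

namespace AffData

variable (D : AffData A I 𝔛)

theorem idealSpec_ideal_top (J : Ideal A) :
    (FSch.idealSpec A J).ideal ⟨⊤, isAffineOpen_top _⟩ =
      J.map (Scheme.ΓSpecIso (CommRingCat.of A)).inv.hom := by
  rw [FSch.idealSpec, ker_specMap_ideal _ Ideal.Quotient.mk_surjective, Ideal.mk_ker]

include D in
theorem isAffine (n : ℕ) : IsAffine (𝔛.X n) :=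
  have := D.cl n
  isAffine_of_isAffineHom (D.p n)

/-- Scalars of `A` on level `n`. -/
noncomputable def σ (n : ℕ) : A →+* Γ(𝔛.X n, ⊤) :=
  (D.p n).appTop.hom.comp (Scheme.ΓSpecIso (CommRingCat.of A)).inv.hom

theorem σ_surjective (n : ℕ) : Function.Surjective (D.σ n) := by
  have := D.cl n
  exact ((D.p n).app_surjective ⊤ (isAffineOpen_top _)).comp
    (ConcreteCategory.bijective_of_isIso (Scheme.ΓSpecIso (CommRingCat.of A)).inv).2

theorem σ_trans (n : ℕ) (a : A) : (𝔛.ι n).appTop (D.σ (n + 1) a) = D.σ n a := by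
  change ((D.p (n + 1)).appTop ≫ (𝔛.ι n).appTop) ((Scheme.ΓSpecIso (CommRingCat.of A)).inv a) = _
  rw [← Scheme.Hom.comp_appTop, D.comm n]
  rfl

theorem ideal_ι (n : ℕ) :
    (𝔛.ι n).ker.ideal ⟨⊤, @isAffineOpen_top _ (D.isAffine (n + 1))⟩ =
      (I ^ (n + 1)).map (D.σ (n + 1)) := by
  have := D.cl (n + 1)
  have := D.isAffine (n + 1)
  have h0 : IsClosedImmersion (𝔛.ι n ≫ D.p (n + 1)) := by rw [D.comm]; exact D.cl n
  have := IsClosedImmersion.of_comp (𝔛.ι n) (D.p (n + 1))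
  rw [← ker_comp_comap (𝔛.ι n) (D.p (n + 1)), D.comm, D.ker, ModPairLib.comap_ideal_affine,
    Scheme.IdealSheafData.ideal_pow, Pi.pow_apply, idealSpec_ideal_top, Ideal.map_pow (D.σ (n + 1)),
    σ, ← Ideal.map_map, Ideal.map_pow]

section Trans

variable (𝔐 : FSch.ModSys 𝔛)

/-- The transition map on global sections. -/
noncomputable def trans (n : ℕ) (x : Γ(𝔐.F (n + 1), ⊤)) : Γ(𝔐.F n, ⊤) :=
  (𝔐.e n).hom.app ⊤ (pullTop (𝔛.ι n) (𝔐.F (n + 1)) x)

theorem trans_add (n : ℕ) (x y : Γ(𝔐.F (n + 1), ⊤)) :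
    trans 𝔐 n (x + y) = trans 𝔐 n x + trans 𝔐 n y := by
  rw [trans, pullTop_add]
  exact map_add ((𝔐.e n).hom.app ⊤).hom _ _

theorem trans_smul (n : ℕ) (a : A) (x : Γ(𝔐.F (n + 1), ⊤)) :
    trans 𝔐 n (D.σ (n + 1) a • x) = D.σ n a • trans 𝔐 n x := by
  rw [trans, pullTop_smul, Scheme.Modules.Hom.app_smul]
  exact congrArg (· • _) (D.σ_trans n a)

theorem bijective_e (n : ℕ) : Function.Bijective ((𝔐.e n).hom.app ⊤) := by
  have : IsIso ((𝔐.e n).hom.app ⊤) :=
    Scheme.Modules.Hom.isIso_iff_isIso_app.mp inferInstance ⊤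
  exact ConcreteCategory.bijective_of_isIso _

include D in
theorem trans_surjective (h𝔐 : 𝔐.IsCoh) (n : ℕ) : Function.Surjective (trans 𝔐 n) := by
  have := D.isAffine (n + 1)
  have := D.cl (n + 1)
  have : IsClosedImmersion (𝔛.ι n ≫ D.p (n + 1)) := by rw [D.comm]; exact D.cl n
  have := IsClosedImmersion.of_comp (𝔛.ι n) (D.p (n + 1))
  exact (bijective_e 𝔐 n).2.comp
    (QCoh.unit_app_closed (𝔛.ι n) (h𝔐 (n + 1)).1 (isAffineOpen_top _)).1

theorem trans_eq_zero_iff (h𝔐 : 𝔐.IsCoh) (n : ℕ) (x : Γ(𝔐.F (n + 1), ⊤)) :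
    trans 𝔐 n x = 0 ↔
      x ∈ (I ^ (n + 1)).map (D.σ (n + 1)) • (⊤ : Submodule Γ(𝔛.X (n + 1), ⊤) Γ(𝔐.F (n + 1), ⊤)) := by
  have := D.isAffine (n + 1)
  have := D.cl (n + 1)
  have : IsClosedImmersion (𝔛.ι n ≫ D.p (n + 1)) := by rw [D.comm]; exact D.cl n
  have := IsClosedImmersion.of_comp (𝔛.ι n) (D.p (n + 1))
  rw [← D.ideal_ι n]
  refine Iff.trans ⟨fun h => (bijective_e 𝔐 n).1 (h.trans (map_zero _).symm), fun h => ?_⟩
    ((QCoh.unit_app_closed (𝔛.ι n) (h𝔐 (n + 1)).1 (isAffineOpen_top _)).2 x)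
  exact (congrArg ((𝔐.e n).hom.app ⊤) h).trans (map_zero _)

end Trans

include D in
/-- A coherent system on the completion is the system of a finite module. -/
theorem exists_limit_module [IsNoetherianRing A] [IsAdicComplete I A] (𝔐 : FSch.ModSys 𝔛)
    (h𝔐 : 𝔐.IsCoh) :
    ∃ (L : ModuleCat.{u} A) (π : ∀ n, L →+ Γ(𝔐.F n, ⊤)), Module.Finite A L ∧
      (∀ n a x, π n (a • x) = D.σ n a • π n x) ∧ (∀ n x, trans 𝔐 n (π (n + 1) x) = π n x) ∧
      (∀ n, Function.Surjective (π n)) ∧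
      ∀ n x, π n x = 0 ↔ x ∈ I ^ (n + 1) • (⊤ : Submodule A L) := by
  let M : ℕ → Type u := fun n => Γ(𝔐.F n, ⊤)
  letI : ∀ n, AddCommGroup (M n) := fun n => inferInstanceAs (AddCommGroup Γ(𝔐.F n, ⊤))
  letI : ∀ n, Module A (M n) := fun n => Module.compHom Γ(𝔐.F n, ⊤) (D.σ n)
  let f : ∀ n, M (n + 1) →ₗ[A] M n := fun n =>
    { toFun := trans 𝔐 n
      map_add' := trans_add 𝔐 n
      map_smul' := D.trans_smul 𝔐 n }
  have hker : ∀ n, LinearMap.ker (f n) = I ^ (n + 1) • (⊤ : Submodule A (M (n + 1))) := fun n => by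
    refine SetLike.ext fun x => Iff.trans (D.trans_eq_zero_iff 𝔐 h𝔐 n x) ⟨fun h => ?_, fun h => ?_⟩
    · obtain ⟨y, hy, rfl⟩ := exists_mem_smul_top (R := A) (M := M (n + 1)) (D.σ (n + 1))
        (D.σ_surjective (n + 1)) (AddMonoidHom.id _) Function.surjective_id (fun _ _ => rfl) _ h
      exact hy
    · exact map_mem_smul_top (R := A) (M := M (n + 1)) (P := Γ(𝔐.F (n + 1), ⊤)) (D.σ (n + 1))
        (AddMonoidHom.id _) (fun _ _ => rfl) _ h
  let L : Submodule A (∀ n, M n) :=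
    { carrier := {x | ∀ n, f n (x (n + 1)) = x n}
      zero_mem' := fun n => map_zero _
      add_mem' := fun {x y} hx hy n => by rw [Pi.add_apply, map_add, hx n, hy n]; rfl
      smul_mem' := fun a x hx n => by rw [Pi.smul_apply, map_smul, hx n]; rfl }
  let π : ∀ n, L →ₗ[A] M n := fun n => (LinearMap.proj n).comp L.subtype
  obtain ⟨-, hπ, hfin⟩ := Adic7.limit_quotient_system A I (IsNoetherian.noetherian I) M f
    (fun n => D.trans_surjective 𝔐 h𝔐 n) hker L π (fun n => LinearMap.ext fun x => x.2 n)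
    (fun x hx => Subtype.ext (funext hx)) (fun y hy => ⟨⟨y, hy⟩, fun n => rfl⟩)
  have hM0 : Module.Finite A (M 0) := by
    have := QCoh.finite_sections (h𝔐 0) (@isAffineOpen_top _ (D.isAffine 0))
    obtain ⟨s, hs⟩ := this.fg_top
    refine ⟨⟨s, eq_top_iff.mpr fun x _ => ?_⟩⟩
    have key : ∀ z : Γ(𝔐.F 0, ⊤), z ∈ Submodule.span Γ(𝔛.X 0, ⊤) (s : Set Γ(𝔐.F 0, ⊤)) →
        (show M 0 from z) ∈ Submodule.span A ((s : Set Γ(𝔐.F 0, ⊤)) : Set (M 0)) := by
      intro z hz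
      induction hz using Submodule.span_induction with
      | mem y hy => exact Submodule.subset_span hy
      | zero => exact Submodule.zero_mem _
      | add y w _ _ hy hw => exact Submodule.add_mem _ hy hw
      | smul c y _ hy =>
        obtain ⟨a, rfl⟩ := D.σ_surjective 0 c
        exact Submodule.smul_mem _ a hy
    exact key x (by rw [hs]; trivial)
  refine ⟨ModuleCat.of A L, fun n => (π n).toAddMonoidHom, hfin inferInstance hM0, fun n a x => rfl,
    fun n x => x.2 n, fun n => (hπ n).1, fun n x => ?_⟩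
  exact (LinearMap.mem_ker (f := π n)).symm.trans (SetLike.ext_iff.mp (hπ n).2 x)

end AffData

end Groth.Agent.FComplLib
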