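import Mathlib.RingTheory.Noetherian.Basic
import Mathlib.RingTheory.AdicCompletion.Basic
import Mathlib.RingTheory.FiniteType
import Mathlib.RingTheory.Nakayama
import Mathlib.RingTheory.Finiteness.Ideal
import Groth.Agent.LocalCrit.Complete

/-!
# Rings modulo finitely generated nilpotent ideals
-/

universe u

namespace Groth.Agent.FComplLib

variable {R : Type u} [CommRing R]

/-- A ring is Noetherian if it is so modulo a finitely generated nilpotent ideal. -/
theorem isNoetherianRing_of_nilpotent (K : Ideal R) (hK : K.FG) {m : ℕ} (hm : K ^ m = ⊥)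
    [IsNoetherianRing (R ⧸ K)] : IsNoetherianRing R := by
  have : IsAdicComplete K R :=
    { haus' := fun x hx => by
        have := hx m
        rw [hm, SModEq.zero, Submodule.bot_smul, Submodule.mem_bot] at this
        exact this
      prec' := fun f hf => ⟨f m, fun n => by
        rcases le_total n m with h | h
        · exact hf h
        · have := hf h
          rw [hm, SModEq.sub_mem, Submodule.bot_smul, Submodule.mem_bot, sub_eq_zero] at this
          rw [this]⟩ }
  exact LocalCrit.isNoetherianRing_of_isAdicComplete K hK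

/-- If `R ⧸ N^(n+1)` is Noetherian with `n ≥ 1` and `N^(n+2) = 0`, then `R` is Noetherian. -/
theorem isNoetherianRing_of_pow_eq_bot (N : Ideal R) (n : ℕ) (hn : 1 ≤ n)
    (hN : N ^ (n + 2) = ⊥) [IsNoetherianRing (R ⧸ N ^ (n + 1))] : IsNoetherianRing R := by
  set K := N ^ (n + 1)
  have hKN : K ≤ N := Ideal.pow_le_self (by omega)
  have hfg : (N.map (Ideal.Quotient.mk K)).FG := IsNoetherian.noetherian _
  obtain ⟨F, hF, hFeq⟩ : ∃ F : Ideal R, F.FG ∧ N ≤ F ⊔ K ∧ F ≤ N := by
    classical
    obtain ⟨s, hs⟩ := hfg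
    have hsur : ∀ q ∈ s, ∃ r ∈ N, Ideal.Quotient.mk K r = q := fun q hq =>
      (Ideal.mem_map_iff_of_surjective _ Ideal.Quotient.mk_surjective).mp
        (hs ▸ Ideal.subset_span hq)
    choose g hgN hg using hsur
    refine ⟨Ideal.span (Set.range fun q : s => g q.1 q.2), ?_, ?_, ?_⟩
    · exact Submodule.fg_span (Set.finite_range _)
    · intro r hr
      have h1 : N.map (Ideal.Quotient.mk K) =
          (Ideal.span (Set.range fun q : s => g q.1 q.2)).map (Ideal.Quotient.mk K) := by
        rw [Ideal.map_span, ← hs, ← Set.range_comp]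
        congr 1
        ext q
        simp only [Finset.mem_coe, Set.mem_range, Function.comp_apply]
        exact ⟨fun h => ⟨⟨q, h⟩, hg q h⟩, fun ⟨t, ht⟩ => by rw [← ht, hg]; exact t.2⟩
      have h2 : Ideal.Quotient.mk K r ∈ _ := h1 ▸ Ideal.mem_map_of_mem (Ideal.Quotient.mk K) hr
      rw [← Ideal.mem_comap, Ideal.comap_map_of_surjective' _ Ideal.Quotient.mk_surjective,
        Ideal.mk_ker] at h2
      exact h2
    · rw [Ideal.span_le]
      rintro _ ⟨q, rfl⟩
      exact hgN _ _
  obtain ⟨hle, hge⟩ := hFeq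
  have hK : K ≤ F := by
    calc K = N * N ^ n := pow_succ' N n
      _ ≤ (F ⊔ K) * N ^ n := Ideal.mul_mono hle le_rfl
      _ = F * N ^ n ⊔ K * N ^ n := Ideal.sup_mul _ _ _
      _ ≤ F := sup_le Ideal.mul_le_left (by
          rw [show K * N ^ n = N ^ (n + 2) * N ^ (n - 1) from ?_, hN, Ideal.bot_mul]
          · exact bot_le
          · rw [← pow_add, ← pow_add]; congr 1; omega)
  have hNF : N = F := le_antisymm (hle.trans (sup_le le_rfl hK)) hge
  exact isNoetherianRing_of_nilpotent K (hNF ▸ Ideal.FG.pow hF : (N ^ (n + 1)).FG) (m := 2)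
    (le_bot_iff.mp (by rw [← pow_mul]; exact (Ideal.pow_le_pow_right (by omega)).trans hN.le))

/-- Surjectivity descends along nilpotent ideals of the source. -/
theorem surjective_of_nilpotent {S : Type u} [CommRing S] (φ : R →+* S) (J : Ideal R) {m : ℕ}
    (hm : J ^ m = ⊥) (h : Function.Surjective ((Ideal.Quotient.mk (J.map φ)).comp φ)) :
    Function.Surjective φ := by
  have key : ∀ k, ∀ s : S, ∃ r : R, s - φ r ∈ (J ^ k).map φ := by
    intro k
    induction k with
    | zero => intro s; exact ⟨0, by simp [Ideal.map_top]⟩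
    | succ k ih =>
      intro s
      obtain ⟨r, hr⟩ := ih s
      suffices ∀ t ∈ (J ^ k).map φ, ∃ r : R, t - φ r ∈ (J ^ (k + 1)).map φ by
        obtain ⟨r', hr'⟩ := this _ hr
        exact ⟨r + r', by rw [map_add, ← sub_sub]; exact hr'⟩
      intro t ht
      induction ht using Submodule.span_induction with
      | mem x hx =>
        obtain ⟨a, ha, rfl⟩ := hx
        exact ⟨a, by simp⟩
      | zero => exact ⟨0, by simp⟩
      | add x y _ _ hx hy =>
        obtain ⟨a, ha⟩ := hx
        obtain ⟨b, hb⟩ := hy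
        exact ⟨a + b, by rw [map_add, add_sub_add_comm]; exact add_mem ha hb⟩
      | smul c x hx' hx =>
        obtain ⟨a, ha⟩ := hx
        obtain ⟨q, hq⟩ := h (Ideal.Quotient.mk _ c)
        rw [RingHom.comp_apply, Ideal.Quotient.eq] at hq
        refine ⟨q * a, ?_⟩
        have e : c • x - φ (q * a) = (c - φ q) * x + φ q * (x - φ a) := by
          rw [map_mul, smul_eq_mul]; ring
        rw [e]
        refine add_mem ?_ (Ideal.mul_mem_left _ _ ha)
        rw [Ideal.map_pow, pow_succ', ← Ideal.map_pow]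
        exact Ideal.mul_mem_mul (by rw [← neg_mem_iff, neg_sub]; exact hq) hx'
  intro s
  obtain ⟨r, hr⟩ := key m s
  rw [hm, Ideal.map_bot, Submodule.mem_bot, sub_eq_zero] at hr
  exact ⟨r, hr.symm⟩

/-- Finite type descends along finitely generated nilpotent ideals. -/
theorem finiteType_of_nilpotent {S : Type u} [CommRing S] (φ : R →+* S) (K : Ideal S) (hK : K.FG)
    {m : ℕ} (hm : K ^ m = ⊥) (h : ((Ideal.Quotient.mk K).comp φ).FiniteType) : φ.FiniteType := by
  classical
  algebraize [φ]
  have h' : Algebra.FiniteType R (S ⧸ K) := h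
  obtain ⟨s, hs⟩ := h'.out
  obtain ⟨t, ht⟩ := hK
  choose g hg using fun q : S ⧸ K => Ideal.Quotient.mk_surjective q
  set T : Subalgebra R S := Algebra.adjoin R (↑(s.image g) ∪ (t : Set S))
  refine ⟨⟨s.image g ∪ t, ?_⟩⟩
  rw [Finset.coe_union]
  change T = ⊤
  have hsur : ∀ x : S, ∃ a ∈ T, x - a ∈ K := by
    intro x
    have hx : Ideal.Quotient.mk K x ∈ (T.map (Ideal.Quotient.mkₐ R K)) := by
      have hle : Algebra.adjoin R (s : Set (S ⧸ K)) ≤ T.map (Ideal.Quotient.mkₐ R K) := by
        refine Algebra.adjoin_le fun q hq => ⟨g q, Algebra.subset_adjoin (Or.inl ?_), hg q⟩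
        simpa using ⟨q, hq, rfl⟩
      exact hle (hs ▸ trivial)
    obtain ⟨a, ha, hax⟩ := hx
    exact ⟨a, ha, Ideal.Quotient.eq.mp hax.symm⟩
  have key : ∀ k, ∀ x : S, ∃ a ∈ T, x - a ∈ K ^ k := by
    intro k
    induction k with
    | zero => exact fun x => ⟨0, T.zero_mem, by simp⟩
    | succ k ih =>
      intro x
      obtain ⟨a, ha, hxa⟩ := ih x
      suffices ∀ y ∈ K ^ k, ∃ b ∈ T, y - b ∈ K ^ (k + 1) by
        obtain ⟨b, hb, hyb⟩ := this _ hxa
        exact ⟨a + b, T.add_mem ha hb, by rwa [← sub_sub]⟩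
      intro y hy
      rw [← ht, Ideal.span, Submodule.span_pow] at hy
      induction hy using Submodule.span_induction with
      | mem z hz =>
        refine ⟨z, ?_, by simp⟩
        have hsub : (t : Set S) ⊆ T.toSubmonoid := fun w hw => Algebra.subset_adjoin (Or.inr hw)
        exact Submonoid.pow_subset hsub hz
      | zero => exact ⟨0, T.zero_mem, by simp⟩
      | add y z _ _ hy hz =>
        obtain ⟨b, hb, hb'⟩ := hy
        obtain ⟨c, hc, hc'⟩ := hz
        exact ⟨b + c, T.add_mem hb hc, by rw [add_sub_add_comm]; exact add_mem hb' hc'⟩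
      | smul c z hz' hz =>
        obtain ⟨b, hb, hb'⟩ := hz
        obtain ⟨q, hq, hq'⟩ := hsur c
        refine ⟨q * b, T.mul_mem hq hb, ?_⟩
        have e : c • z - q * b = (c - q) * z + q * (z - b) := by rw [smul_eq_mul]; ring
        rw [e]
        refine add_mem ?_ (Ideal.mul_mem_left _ _ hb')
        rw [pow_succ']
        refine Ideal.mul_mem_mul hq' ?_
        rw [← ht, Ideal.span, Submodule.span_pow]
        exact hz'
  rw [eq_top_iff]
  intro x _
  obtain ⟨a, ha, hxa⟩ := key m x
  rw [hm, Submodule.mem_bot, sub_eq_zero] at hxa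
  exact hxa ▸ ha

end Groth.Agent.FComplLib
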