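import Groth.Agent.FComplLib.IdealComap
import Groth.Agent.FComplLib.NilRing
import Groth.Prelude.Def_FSch3
import Mathlib.AlgebraicGeometry.Morphisms.ClosedImmersion
import Mathlib.AlgebraicGeometry.Morphisms.FiniteType

/-!
# Formal schemes as systems of thickenings: adic systems and adic morphisms
-/

universe u

open CategoryTheory CategoryTheory.Limits AlgebraicGeometry

namespace Groth.Agent.FComplLib

open FSch

variable {𝔛 𝔜 𝔖 : Sys.{u}}

theorem isClosedImmersion_ι (hF : 𝔛.IsFormal) (n : ℕ) : IsClosedImmersion (𝔛.ι n) := (hF n).1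

theorem surjective_ι (hF : 𝔛.IsFormal) (n : ℕ) : Surjective (𝔛.ι n) := ⟨(hF n).2⟩

theorem isClosedImmersion_toX (hF : 𝔛.IsFormal) : ∀ n, IsClosedImmersion (𝔛.toX n)
  | 0 => inferInstanceAs (IsClosedImmersion (𝟙 _))
  | n + 1 => by
    have := isClosedImmersion_toX hF n
    have := isClosedImmersion_ι hF n
    exact inferInstanceAs (IsClosedImmersion (𝔛.toX n ≫ 𝔛.ι n))

theorem surjective_toX (hF : 𝔛.IsFormal) : ∀ n, Surjective (𝔛.toX n)
  | 0 => inferInstanceAs (Surjective (𝟙 _))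
  | n + 1 => by
    have := surjective_toX hF n
    have := surjective_ι hF n
    exact inferInstanceAs (Surjective (𝔛.toX n ≫ 𝔛.ι n))

/-- The ideals of the special fibre are compatible. -/
theorem comap_ker_toX (hF : 𝔛.IsFormal) (n : ℕ) :
    (𝔛.toX (n + 1)).ker.comap (𝔛.ι n) = (𝔛.toX n).ker := by
  have := isClosedImmersion_ι hF n
  have := isClosedImmersion_toX hF n
  exact ker_comp_comap (𝔛.toX n) (𝔛.ι n)

/-- In an adic system the ideal of the special fibre in level `n` has vanishing `(n+1)`-st power. -/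
theorem pow_ker_toX (hF : 𝔛.IsFormal) (hA : 𝔛.IsAdic) (n : ℕ) :
    (𝔛.toX n).ker ^ (n + 1) = ⊥ := by
  have := isClosedImmersion_ι hF n
  rw [← comap_ker_toX hF n, ← comap_pow, ← hA n, ker_self_comap]

/-- Ideals are finitely generated near every point. -/
def LocFG {X : Scheme.{u}} (I : X.IdealSheafData) : Prop :=
  ∀ x : X, ∃ W : X.affineOpens, x ∈ W.1 ∧ (I.ideal W).FG

theorem locFG_of_idealFT {X : Scheme.{u}} {I : X.IdealSheafData} (h : IdealFT I) : LocFG I := by
  intro x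
  obtain ⟨_, ⟨W, hW, rfl⟩, hxW, -⟩ := X.isBasis_affineOpens.exists_subset_of_mem_open
    (Set.mem_univ x) isOpen_univ
  exact ⟨⟨W, hW⟩, hxW, h _⟩

theorem locFG_of_isLocallyNoetherian {X : Scheme.{u}} [IsLocallyNoetherian X]
    (I : X.IdealSheafData) : LocFG I :=
  locFG_of_idealFT fun W => (IsLocallyNoetherian.component_noetherian W).noetherian _

theorem LocFG.comap {X Y : Scheme.{u}} {I : Y.IdealSheafData} (h : LocFG I) (f : X ⟶ Y) :
    LocFG (I.comap f) := by
  intro x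
  obtain ⟨U, hU, hfg⟩ := h (f x)
  obtain ⟨_, ⟨V, hV, rfl⟩, hxV, hVU⟩ := X.isBasis_affineOpens.exists_subset_of_mem_open
    (show x ∈ (f ⁻¹ᵁ U.1 : Set X) from hU) (f ⁻¹ᵁ U.1).isOpen
  exact ⟨⟨V, hV⟩, hxV, by rw [ModPairLib.ideal_comap I f U ⟨V, hV⟩ hVU]; exact hfg.map _⟩

theorem isNoetherianRing_quot {X Y : Scheme.{u}} (i : X ⟶ Y) [IsClosedImmersion i]
    [IsLocallyNoetherian X] (W : Y.affineOpens) :
    IsNoetherianRing (Γ(Y, W.1) ⧸ i.ker.ideal W) := by
  have : IsNoetherianRing Γ(X, i ⁻¹ᵁ W.1) :=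
    IsLocallyNoetherian.component_noetherian ⟨_, W.2.preimage i⟩
  rw [ideal_ker]
  exact isNoetherianRing_of_ringEquiv _
    (RingHom.quotientKerEquivOfSurjective (i.app_surjective W.1 W.2)).symm

theorem isLocallyNoetherian_succ (hF : 𝔛.IsFormal) (hA : 𝔛.IsAdic) (n : ℕ)
    [IsLocallyNoetherian (𝔛.X n)] (h0 : n = 0 → LocFG (𝔛.ι n).ker) :
    IsLocallyNoetherian (𝔛.X (n + 1)) := by
  have := isClosedImmersion_ι hF n
  have hker := hA n
  have hbot := pow_ker_toX hF hA (n + 1)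
  set N := (𝔛.toX (n + 1)).ker
  rcases Nat.eq_zero_or_pos n with rfl | hn
  · choose W hxW hW using h0 rfl
    refine isLocallyNoetherian_of_affine_cover (S := W)
      (eq_top_iff.mpr fun x _ => TopologicalSpace.Opens.mem_iSup.mpr ⟨x, hxW x⟩) fun x => ?_
    have := isNoetherianRing_quot (𝔛.ι 0) (W x)
    refine isNoetherianRing_of_nilpotent _ (hW x) (m := 2) ?_
    rw [hker, Scheme.IdealSheafData.ideal_pow, Pi.pow_apply, pow_one]
    exact congrFun (congrArg Scheme.IdealSheafData.ideal hbot) (W x)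
  · refine isLocallyNoetherian_of_affine_cover (S := fun W : (𝔛.X (n + 1)).affineOpens => W)
      (iSup_affineOpens_eq_top _) fun W => ?_
    have h := isNoetherianRing_quot (𝔛.ι n) W
    rw [hker, Scheme.IdealSheafData.ideal_pow, Pi.pow_apply] at h
    exact isNoetherianRing_of_pow_eq_bot (N.ideal W) n hn
      (congrFun (congrArg Scheme.IdealSheafData.ideal hbot) W)

theorem isLocallyNoetherian_level (hF : 𝔛.IsFormal) (hA : 𝔛.IsAdic)
    [IsLocallyNoetherian (𝔛.X 0)] (h0 : LocFG (𝔛.ι 0).ker) :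
    ∀ n, IsLocallyNoetherian (𝔛.X n)
  | 0 => inferInstance
  | n + 1 => by
    have := isLocallyNoetherian_level hF hA h0 n
    exact isLocallyNoetherian_succ hF hA n fun h => by subst h; exact h0

section AdicHom

variable {f : 𝔛 ⟶ 𝔜}

/-- The square over the special fibre of an adic morphism is cartesian. -/
theorem isPullback_toX (hf : IsAdicHom f) : ∀ n, IsPullback (𝔛.toX n) ((f : Hom 𝔛 𝔜).app 0)
    ((f : Hom 𝔛 𝔜).app n) (𝔜.toX n)
  | 0 => by
    simp only [Sys.toX]
    exact IsPullback.of_horiz_isIso ⟨by simp⟩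
  | n + 1 => (isPullback_toX hf n).paste_horiz (hf n)

theorem isFormal_of_isAdicHom (hf : IsAdicHom f) (hY : 𝔜.IsFormal) : 𝔛.IsFormal := fun n =>
  ⟨MorphismProperty.of_isPullback (hf n).flip (hY n).1,
    (MorphismProperty.of_isPullback (P := @Surjective) (hf n).flip ⟨(hY n).2⟩).surj⟩

theorem isAdic_of_isAdicHom (hf : IsAdicHom f) (hY : 𝔜.IsFormal) (hA : 𝔜.IsAdic) :
    𝔛.IsAdic := fun n => by
  have := isClosedImmersion_ι hY n
  have := isClosedImmersion_toX hY (n + 1)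
  rw [ker_of_isPullback (hf n), ker_of_isPullback (isPullback_toX hf (n + 1)), hA n, comap_pow]

theorem isLocNoethFormal_of_isAdicHom (hf : IsAdicHom f) (hY : 𝔜.IsLocNoethFormal)
    [IsLocallyNoetherian (𝔛.X 0)] : 𝔛.IsLocNoethFormal := by
  obtain ⟨hF, hA, hN⟩ := hY
  refine ⟨isFormal_of_isAdicHom hf hF, isAdic_of_isAdicHom hf hF hA,
    isLocallyNoetherian_level (isFormal_of_isAdicHom hf hF) (isAdic_of_isAdicHom hf hF hA) ?_⟩
  have := isClosedImmersion_ι hF 0
  have := hN 1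
  rw [ker_of_isPullback (hf 0)]
  exact (locFG_of_isLocallyNoetherian _).comap _

end AdicHom

section Pullback

theorem isPullback_of_levelwise {𝔓 : Sys.{u}} {p : 𝔓 ⟶ 𝔛} {q : 𝔓 ⟶ 𝔜} {f : 𝔛 ⟶ 𝔖} {g : 𝔜 ⟶ 𝔖}
    (h : ∀ n, IsPullback ((p : Hom _ _).app n) ((q : Hom _ _).app n) ((f : Hom _ _).app n)
      ((g : Hom _ _).app n)) : IsPullback p q f g := by
  have w : p ≫ f = q ≫ g := Hom.ext (funext fun n => (h n).w)
  have wn : ∀ (s : PullbackCone f g) (n : ℕ), (s.fst : Hom _ _).app n ≫ (f : Hom _ _).app n =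
      (s.snd : Hom _ _).app n ≫ (g : Hom _ _).app n := fun s n =>
    congrArg (fun t : Hom s.pt 𝔖 => t.app n) s.condition
  refine ⟨⟨w⟩, ⟨PullbackCone.IsLimit.mk _
    (fun s => ⟨fun n => (h n).lift _ _ (wn s n), fun n => (h (n + 1)).hom_ext ?_ ?_⟩)
    (fun s => Hom.ext (funext fun n => (h n).lift_fst _ _ _))
    (fun s => Hom.ext (funext fun n => (h n).lift_snd _ _ _))
    (fun s m h1 h2 => Hom.ext (funext fun n => (h n).hom_ext
      ((congrArg (fun t : Hom s.pt 𝔛 => t.app n) h1).trans ((h n).lift_fst _ _ _).symm)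
      ((congrArg (fun t : Hom s.pt 𝔜 => t.app n) h2).trans ((h n).lift_snd _ _ _).symm)))⟩⟩
  · rw [Category.assoc, ← (p : Hom _ _).comm, (h n).lift_fst_assoc, (s.fst : Hom _ _).comm,
      Category.assoc, (h (n + 1)).lift_fst]
  · rw [Category.assoc, ← (q : Hom _ _).comm, (h n).lift_snd_assoc, (s.snd : Hom _ _).comm,
      Category.assoc, (h (n + 1)).lift_snd]

theorem isAdicHom_pullbackSnd {f : 𝔛 ⟶ 𝔖} (hf : IsAdicHom f) (g : 𝔜 ⟶ 𝔖) :
    IsAdicHom (pullbackSnd f g) := fun n => by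
  have hbig : IsPullback (pullback.fst _ _ ≫ 𝔛.ι n) ((pullbackSnd f g : Hom _ _).app n)
      ((f : Hom _ _).app (n + 1)) (𝔜.ι n ≫ (g : Hom _ _).app (n + 1)) :=
    (g : Hom _ _).comm n ▸ (IsPullback.of_hasPullback _ _).paste_horiz (hf n)
  exact IsPullback.of_right
    (h₁₁ := (pullbackSys f g).ι n) (h₁₂ := (pullbackFst f g : Hom _ _).app (n + 1))
    (show IsPullback _ _ _ _ by
      rw [← (pullbackFst f g : Hom _ _).comm n]
      exact hbig)
    ((pullbackSnd f g : Hom _ _).comm n).symm (IsPullback.of_hasPullback _ _)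

end Pullback

section Completion

variable {X Y : Scheme.{u}} (𝓘 : X.IdealSheafData)

instance isClosedImmersion_completionToX (n : ℕ) :
    IsClosedImmersion (completionToX X 𝓘 n) :=
  inferInstanceAs (IsClosedImmersion (𝓘 ^ (n + 1)).subschemeι)

theorem completion_toX_comp (n : ℕ) :
    (completionAlong X 𝓘).toX n ≫ completionToX X 𝓘 n = completionToX X 𝓘 0 := by
  induction n with
  | zero => exact Category.id_comp _
  | succ n ih =>
    change ((completionAlong X 𝓘).toX n ≫ _) ≫ _ = _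
    rw [Category.assoc]
    exact (congrArg _ (Scheme.IdealSheafData.inclusion_subschemeι (pow_succ_le X 𝓘 n))).trans ih

theorem isFormal_completionAlong : (completionAlong X 𝓘).IsFormal := fun n => by
  have hc := IsClosedImmersion.of_comp (Scheme.IdealSheafData.inclusion (pow_succ_le X 𝓘 n))
    (𝓘 ^ (n + 2)).subschemeι
  refine ⟨hc, fun y => ?_⟩
  have hy : (𝓘 ^ (n + 2)).subschemeι y ∈ Set.range (𝓘 ^ (n + 1)).subschemeι := by
    rw [Scheme.IdealSheafData.range_subschemeι, Scheme.IdealSheafData.support_pow_succ,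
      ← 𝓘.support_pow_succ (n + 1), ← Scheme.IdealSheafData.range_subschemeι]
    exact ⟨y, rfl⟩
  obtain ⟨x, hx⟩ := hy
  refine ⟨x, ((𝓘 ^ (n + 2)).subschemeι.isEmbedding).injective ?_⟩
  refine Eq.trans ?_ hx
  exact congrArg (fun m : (𝓘 ^ (n + 1)).subscheme ⟶ X => m x)
    (Scheme.IdealSheafData.inclusion_subschemeι (pow_succ_le X 𝓘 n))

theorem isAdic_completionAlong : (completionAlong X 𝓘).IsAdic := fun n => by
  have := isClosedImmersion_toX (isFormal_completionAlong 𝓘) (n + 1)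
  have h1 : ((completionAlong X 𝓘).ι n).ker = (𝓘 ^ (n + 1)).comap (𝓘 ^ (n + 2)).subschemeι :=
    ker_inclusion (pow_succ_le X 𝓘 n)
  have h2 : ((completionAlong X 𝓘).toX (n + 1)).ker =
      (completionToX X 𝓘 0).ker.comap (completionToX X 𝓘 (n + 1)) := by
    rw [← completion_toX_comp 𝓘 (n + 1), ker_comp_comap]
  have h3 : (completionToX X 𝓘 0).ker = 𝓘 := by
    refine (Scheme.IdealSheafData.ker_subschemeι _).trans ?_
    rw [zero_add, pow_one]
  rw [h1, h2, h3, ← comap_pow]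
  rfl

theorem isPullback_completionMap_app (f : X ⟶ Y) (𝓚 : Y.IdealSheafData)
    (h : PowCompat f (𝓚.comap f) 𝓚) (n : ℕ) :
    IsPullback (completionToX X (𝓚.comap f) n)
      ((completionMap f (𝓚.comap f) 𝓚 h : Hom _ _).app n) f (completionToX Y 𝓚 n) := by
  refine isPullback_of_isClosedImmersion _ _ _ _
    (Scheme.IdealSheafData.subschemeMap_subschemeι (𝓚.comap f ^ (n + 1)) (𝓚 ^ (n + 1)) f
      (Scheme.IdealSheafData.le_map_iff_comap_le.mpr (h n))).symm ?_
  exact (congrArg (fun J => Scheme.IdealSheafData.comap J f)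
    (Scheme.IdealSheafData.ker_subschemeι (𝓚 ^ (n + 1)))).trans
    ((comap_pow f 𝓚 (n + 1)).trans (Scheme.IdealSheafData.ker_subschemeι _).symm)

theorem completionMap_app_comp (f : X ⟶ Y) (𝓚 : Y.IdealSheafData) (h : PowCompat f 𝓘 𝓚) (n : ℕ) :
    (completionMap f 𝓘 𝓚 h : Hom _ _).app n ≫ completionToX Y 𝓚 n = completionToX X 𝓘 n ≫ f :=
  Scheme.IdealSheafData.subschemeMap_subschemeι (𝓘 ^ (n + 1)) (𝓚 ^ (n + 1)) f
    (Scheme.IdealSheafData.le_map_iff_comap_le.mpr (h n))

theorem isAdicHom_completionMap (f : X ⟶ Y) (𝓚 : Y.IdealSheafData)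
    (h : PowCompat f (𝓚.comap f) 𝓚) : IsAdicHom (completionMap f (𝓚.comap f) 𝓚 h) := fun n => by
  refine IsPullback.of_right (h₁₂ := completionToX X (𝓚.comap f) (n + 1))
    (h₂₂ := completionToX Y 𝓚 (n + 1)) (v₁₃ := f) ?_
    ((completionMap f (𝓚.comap f) 𝓚 h : Hom _ _).comm n).symm (isPullback_completionMap_app f 𝓚 h _)
  have e1 : (completionAlong X (𝓚.comap f)).ι n ≫ completionToX X (𝓚.comap f) (n + 1) =
      completionToX X (𝓚.comap f) n := Scheme.IdealSheafData.inclusion_subschemeι _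
  have e2 : (completionAlong Y 𝓚).ι n ≫ completionToX Y 𝓚 (n + 1) = completionToX Y 𝓚 n :=
    Scheme.IdealSheafData.inclusion_subschemeι _
  rw [e1, e2]
  exact isPullback_completionMap_app f 𝓚 h n

theorem isLocNoethFormal_completionAlong [IsLocallyNoetherian X] :
    (completionAlong X 𝓘).IsLocNoethFormal :=
  ⟨isFormal_completionAlong 𝓘, isAdic_completionAlong 𝓘,
    fun n => LocallyOfFiniteType.isLocallyNoetherian (completionToX X 𝓘 n)⟩

end Completion

end Groth.Agent.FComplLib
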