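import Groth.Agent.FComplLib.AffSysMod

/-!
# Sections of the completion of a finite module
-/

universe u

open CategoryTheory CategoryTheory.Limits AlgebraicGeometry TopologicalSpace Opposite

namespace Groth.Agent.FComplLib

variable {A : Type u} [CommRing A]

theorem moduleSpec_smul (P : (Spec (CommRingCat.of A)).Modules) (r : A)
    (x : (moduleSpecΓFunctor (R := CommRingCat.of A)).obj P) :
    (show Γ(P, ⊤) from r • x) =
      (show Γ(Spec (CommRingCat.of A), ⊤) from (Scheme.ΓSpecIso (CommRingCat.of A)).inv r) •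
        (show Γ(P, ⊤) from x) := by
  show ((Spec (CommRingCat.of A)).presheaf.map (𝟙 _) ((Scheme.ΓSpecIso (CommRingCat.of A)).inv r)) •
    (show Γ(P, ⊤) from x) = _
  rw [CategoryTheory.Functor.map_id]
  rfl

/-- The elements of a module as global sections of the associated sheaf. -/
noncomputable def θ (M : ModuleCat.{u} A) : M →+ Γ(tilde (R := CommRingCat.of A) M, ⊤) where
  toFun x := ((tilde.toTildeΓNatIso (R := CommRingCat.of A)).app M).hom.hom x
  map_zero' := map_zero ((tilde.toTildeΓNatIso (R := CommRingCat.of A)).app M).hom.hom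
  map_add' x y := map_add ((tilde.toTildeΓNatIso (R := CommRingCat.of A)).app M).hom.hom x y

theorem bijective_θ (M : ModuleCat.{u} A) : Function.Bijective (θ M) :=
  ConcreteCategory.bijective_of_isIso ((tilde.toTildeΓNatIso (R := CommRingCat.of A)).app M).hom

theorem θ_smul (M : ModuleCat.{u} A) (a : A) (x : M) :
    θ M (a • x) =
      (show Γ(Spec (CommRingCat.of A), ⊤) from (Scheme.ΓSpecIso (CommRingCat.of A)).inv a) • θ M x :=
  (map_smul ((tilde.toTildeΓNatIso (R := CommRingCat.of A)).app M).hom.hom a x).trans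
    (moduleSpec_smul _ a _)

theorem isQCoh_tilde (M : ModuleCat.{u} A) : Coh.IsQCoh (tilde (R := CommRingCat.of A) M) :=
  QCoh.isQCoh_spec_iff.2 ⟨M, ⟨Iso.refl _⟩⟩

theorem θ_naturality {M N : ModuleCat.{u} A} (u : M ⟶ N) (x : M) :
    ((tilde.functor (CommRingCat.of A)).map u).app ⊤ (θ M x) = θ N (u.hom x) :=
  (congrArg (fun φ => φ.hom x)
    ((tilde.toTildeΓNatIso (R := CommRingCat.of A)).hom.naturality u)).symm

/-- A linear map of bundled modules. -/
def mkModuleHom (M Q : ModuleCat.{u} A) (g : M → Q) (ha : ∀ x y, g (x + y) = g x + g y)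
    (hs : ∀ (a : A) x, g (a • x) = a • g x) : M ⟶ Q :=
  ModuleCat.ofHom { toFun := g, map_add' := ha, map_smul' := hs }

theorem exists_hom_tilde (M : ModuleCat.{u} A) (P : (Spec (CommRingCat.of A)).Modules)
    (g : M →+ Γ(P, ⊤))
    (hg : ∀ (a : A) x, g (a • x) =
      (show Γ(Spec (CommRingCat.of A), ⊤) from (Scheme.ΓSpecIso (CommRingCat.of A)).inv a) • g x) :
    ∃ ψ : tilde (R := CommRingCat.of A) M ⟶ P, ∀ x, ψ.app ⊤ (θ M x) = g x := by
  let g' : M → (moduleSpecΓFunctor (R := CommRingCat.of A)).obj P := fun x => g x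
  have hg' : ∀ (a : A) x, g' (a • x) = a • g' x := fun a x =>
    (hg a x).trans (moduleSpec_smul P a (g' x)).symm
  let l : M ⟶ (moduleSpecΓFunctor (R := CommRingCat.of A)).obj P :=
    mkModuleHom M _ g' (fun x y => map_add g x y) hg'
  let e := (tilde.adjunction (R := CommRingCat.of A)).homEquiv M P
  obtain ⟨ψ, hψ⟩ := e.surjective l
  refine ⟨ψ, fun x => ?_⟩
  have h2 : (tilde.adjunction (R := CommRingCat.of A)).unit.app M ≫
      (moduleSpecΓFunctor (R := CommRingCat.of A)).map ψ = l :=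
    (Adjunction.homEquiv_unit (tilde.adjunction (R := CommRingCat.of A)) M P ψ).symm.trans hψ
  exact congrArg (fun f => f.hom x) h2

variable {I : Ideal A} {𝔛 : FSch.Sys.{u}}

namespace AffData

variable (D : AffData A I 𝔛) (M : ModuleCat.{u} A)

/-- A module element as a section on level `n`. -/
noncomputable def sec (n : ℕ) :
    M →+ Γ((Scheme.Modules.pullback (D.p n)).obj (tilde (R := CommRingCat.of A) M), ⊤) where
  toFun x := pullTop (D.p n) _ (θ M x)
  map_zero' := by
    rw [map_zero]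
    exact map_zero (((Scheme.Modules.pullbackPushforwardAdjunction (D.p n)).unit.app
      (tilde (R := CommRingCat.of A) M)).app ⊤).hom
  map_add' x y := by rw [map_add, pullTop_add]

theorem sec_smul (n : ℕ) (a : A) (x : M) : D.sec M n (a • x) = D.σ n a • D.sec M n x :=
  (congrArg (pullTop (D.p n) _) (θ_smul M a x)).trans (pullTop_smul _ _ _ _)

theorem sec_surjective (n : ℕ) : Function.Surjective (D.sec M n) := by
  have := D.cl n
  exact (QCoh.unit_app_closed (D.p n) (isQCoh_tilde M) (isAffineOpen_top _)).1.comp (bijective_θ M).2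

theorem sec_eq_zero_iff (n : ℕ) (x : M) :
    D.sec M n x = 0 ↔ x ∈ I ^ (n + 1) • (⊤ : Submodule A M) := by
  have := D.cl n
  refine Iff.trans ((QCoh.unit_app_closed (D.p n) (isQCoh_tilde M) (isAffineOpen_top _)).2 (θ M x)) ?_
  rw [D.ker, Scheme.IdealSheafData.ideal_pow, Pi.pow_apply, idealSpec_ideal_top, ← Ideal.map_pow]
  have hb := ConcreteCategory.bijective_of_isIso (Scheme.ΓSpecIso (CommRingCat.of A)).inv
  refine ⟨fun h => ?_, fun h => map_mem_smul_top _ _ (θ_smul M) _ h⟩
  obtain ⟨y, hy, he⟩ := exists_mem_smul_top _ hb.2 (θ M) (bijective_θ M).2 (θ_smul M) _ h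
  exact (bijective_θ M).1 he ▸ hy

theorem sec_naturality {N : ModuleCat.{u} A} (u : M ⟶ N) (n : ℕ) (x : M) :
    ((Scheme.Modules.pullback (D.p n)).map ((tilde.functor (CommRingCat.of A)).map u)).app ⊤
      (D.sec M n x) = D.sec N n (u.hom x) :=
  (pullTop_naturality (D.p n) ((tilde.functor (CommRingCat.of A)).map u) (θ M x)).trans
    (congrArg (pullTop (D.p n) _) (θ_naturality u x))

theorem sec_trans (n : ℕ) (x : M) :
    ((Scheme.Modules.pullbackComp (𝔛.ι n) (D.p (n + 1))).app (tilde (R := CommRingCat.of A) M) ≪≫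
      (Scheme.Modules.pullbackCongr (D.comm n)).app (tilde (R := CommRingCat.of A) M)).hom.app ⊤
        (pullTop (𝔛.ι n) _ (D.sec M (n + 1) x)) = D.sec M n x :=
  (congrArg (((Scheme.Modules.pullbackCongr (D.comm n)).app
      (tilde (R := CommRingCat.of A) M)).hom.app ⊤)
    (pullTop_comp (𝔛.ι n) (D.p (n + 1)) _ (θ M x))).trans (pullTop_congr (D.comm n) _ _)

/-- The system of a module on the completion. -/
noncomputable def sys : FSch.ModSys 𝔛 where
  F n := (Scheme.Modules.pullback (D.p n)).obj (tilde (R := CommRingCat.of A) M)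
  e n := (Scheme.Modules.pullbackComp (𝔛.ι n) (D.p (n + 1))).app (tilde (R := CommRingCat.of A) M) ≪≫
    (Scheme.Modules.pullbackCongr (D.comm n)).app (tilde (R := CommRingCat.of A) M)

theorem trans_sec (n : ℕ) (x : M) : trans (D.sys M) n (D.sec M (n + 1) x) = D.sec M n x :=
  D.sec_trans M n x

theorem isQCoh_level (n : ℕ) :
    Coh.IsQCoh ((Scheme.Modules.pullback (D.p n)).obj (tilde (R := CommRingCat.of A) M)) :=
  QCoh.isQCoh_pullback _ (isQCoh_tilde M)

theorem exists_iso_sys [IsNoetherianRing A] [IsAdicComplete I A] (𝔐 : FSch.ModSys 𝔛)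
    (h𝔐 : 𝔐.IsCoh) :
    ∃ L : ModuleCat.{u} A, Module.Finite A L ∧ Nonempty (𝔐 ≅ D.sys L) := by
  obtain ⟨L, π, hfin, hsmul, htrans, hsurj, hker⟩ := D.exists_limit_module 𝔐 h𝔐
  refine ⟨L, hfin, ?_⟩
  have hφ : ∀ n, ∃ φ : (D.sys L).F n ⟶ 𝔐.F n, ∀ x, φ.app ⊤ (D.sec L n x) = π n x := by
    intro n
    let adj := Scheme.Modules.pullbackPushforwardAdjunction (D.p n)
    let P : (Spec (CommRingCat.of A)).Modules := (Scheme.Modules.pushforward (D.p n)).obj (𝔐.F n)
    obtain ⟨ψ, hψ⟩ := exists_hom_tilde L P (π n) (fun a x => hsmul n a x)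
    obtain ⟨φ, hφ⟩ := (adj.homEquiv _ _).surjective ψ
    refine ⟨φ, fun x => Eq.trans ?_ (hψ x)⟩
    exact congrArg (fun f => Scheme.Modules.Hom.app f ⊤ (θ L x))
      ((Adjunction.homEquiv_unit adj _ _ φ).symm.trans hφ)
  choose φ hφ using hφ
  have hiso : ∀ n, IsIso (φ n) := fun n => by
    have := D.isAffine n
    refine isIso_of_bijective_app_top (D.isQCoh_level L n) (h𝔐 n).1 _
      ⟨(injective_iff_map_eq_zero _).mpr fun z hz => ?_, fun y => ?_⟩
    · obtain ⟨x, rfl⟩ := D.sec_surjective L n z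
      exact (D.sec_eq_zero_iff L n x).2 ((hker n x).1 ((hφ n x).symm.trans hz))
    · obtain ⟨x, rfl⟩ := hsurj n y
      exact ⟨_, hφ n x⟩
  have hcomm : ∀ n, (Scheme.Modules.pullback (𝔛.ι n)).map (φ (n + 1)) ≫ (𝔐.e n).hom =
      ((D.sys L).e n).hom ≫ φ n := by
    intro n
    have := D.isAffine n
    have := D.isAffine (n + 1)
    have := D.cl (n + 1)
    have : IsClosedImmersion (𝔛.ι n ≫ D.p (n + 1)) := by rw [D.comm]; exact D.cl n
    have := IsClosedImmersion.of_comp (𝔛.ι n) (D.p (n + 1))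
    refine hom_ext_top (QCoh.isQCoh_pullback _ (D.isQCoh_level L (n + 1))) (h𝔐 n).1 _ _ fun z => ?_
    obtain ⟨w, rfl⟩ := (QCoh.unit_app_closed (𝔛.ι n) (D.isQCoh_level L (n + 1))
      (isAffineOpen_top _)).1 z
    obtain ⟨x, rfl⟩ := D.sec_surjective L (n + 1) w
    change (𝔐.e n).hom.app ⊤ (((Scheme.Modules.pullback (𝔛.ι n)).map (φ (n + 1))).app ⊤
        (pullTop (𝔛.ι n) _ (D.sec L (n + 1) x))) =
      (φ n).app ⊤ (trans (D.sys L) n (D.sec L (n + 1) x))
    rw [D.trans_sec, hφ, pullTop_naturality, hφ]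
    exact htrans n x
  let Φ : D.sys L ⟶ 𝔐 := ⟨φ, hcomm⟩
  refine ⟨(Iso.symm ⟨Φ, ⟨fun n => inv (φ n), fun n => ?_⟩, ?_, ?_⟩)⟩
  · rw [Functor.map_inv, IsIso.inv_comp_eq, ← Category.assoc, hcomm n, Category.assoc,
      IsIso.hom_inv_id, Category.comp_id]
  · exact FSch.ModSys.Hom.ext (funext fun n => IsIso.hom_inv_id _)
  · exact FSch.ModSys.Hom.ext (funext fun n => IsIso.inv_hom_id _)

theorem bijective_map [IsNoetherianRing A] [IsAdicComplete I A] (M N : ModuleCat.{u} A)
    [Module.Finite A N] :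
    (∀ u v : M ⟶ N, (∀ n x, D.sec N n (u.hom x) = D.sec N n (v.hom x)) → u = v) ∧
    ∀ φ : D.sys M ⟶ D.sys N, ∃ u : M ⟶ N,
      ∀ n, (Scheme.Modules.pullback (D.p n)).map ((tilde.functor (CommRingCat.of A)).map u) =
        (φ : FSch.ModSys.Hom _ _).app n := by
  have : IsAdicComplete I N := AdicLib.isAdicComplete_of_finite I N
  have huniq : ∀ x y : N, (∀ n, D.sec N n x = D.sec N n y) → x = y := fun x y h => by
    refine sub_eq_zero.mp (IsHausdorff.haus ‹IsAdicComplete I N›.1 _ fun n => ?_)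
    rw [SModEq.zero]
    refine Submodule.smul_mono (Ideal.pow_le_pow_right (Nat.le_succ n)) le_rfl ?_
    rw [← D.sec_eq_zero_iff N n, map_sub, h n, sub_self]
  refine ⟨fun u v h => ModuleCat.hom_ext (LinearMap.ext fun x => huniq _ _ fun n => h n x), fun φ => ?_⟩
  let φ' := fun n => (φ : FSch.ModSys.Hom _ _).app n
  have hc : ∀ n x, trans (D.sys N) n ((φ' (n + 1)).app ⊤ (D.sec M (n + 1) x)) =
      (φ' n).app ⊤ (D.sec M n x) := by
    intro n x
    have h := congrArg (fun f => Scheme.Modules.Hom.app f ⊤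
      (pullTop (𝔛.ι n) _ (D.sec M (n + 1) x))) ((φ : FSch.ModSys.Hom _ _).comm n)
    refine Eq.trans (congrArg (((D.sys N).e n).hom.app ⊤)
      (pullTop_naturality (𝔛.ι n) (φ' (n + 1)) _).symm) (h.trans ?_)
    exact congrArg ((φ' n).app ⊤) (D.trans_sec M n x)
  have hex : ∀ x : M, ∃ y : N, ∀ n, D.sec N n y = (φ' n).app ⊤ (D.sec M n x) := by
    intro x
    choose z hz using fun n => D.sec_surjective N n ((φ' n).app ⊤ (D.sec M n x))
    have hsucc : ∀ n, D.sec N n (z (n + 1)) = D.sec N n (z n) := fun n => by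
      rw [← D.trans_sec, hz, hz]
      exact hc n x
    have hcau : ∀ {m n : ℕ}, m ≤ n → z m ≡ z n [SMOD (I ^ m • ⊤ : Submodule A N)] := by
      intro m n h
      induction n, h using Nat.le_induction with
      | base => rfl
      | succ n hmn ih =>
        refine ih.trans (SModEq.sub_mem.mpr ?_)
        refine Submodule.smul_mono (Ideal.pow_le_pow_right (by omega)) le_rfl
          (?_ : z n - z (n + 1) ∈ I ^ (n + 1) • (⊤ : Submodule A N))
        rw [← D.sec_eq_zero_iff N n, map_sub, hsucc n, sub_self]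
    obtain ⟨y, hy⟩ := IsPrecomplete.prec ‹IsAdicComplete I N›.2 hcau
    refine ⟨y, fun n => ?_⟩
    have h1 : D.sec N n (z (n + 1)) = D.sec N n y := by
      rw [← sub_eq_zero, ← map_sub, D.sec_eq_zero_iff N n]
      exact SModEq.sub_mem.mp (hy (n + 1))
    rw [← h1, hsucc n, hz]
  choose y hy using hex
  let u : M →ₗ[A] N :=
    { toFun := y
      map_add' := fun x x' => huniq _ _ fun n => by
        rw [map_add, hy, hy, hy, map_add]
        exact map_add ((φ' n).app ⊤).hom _ _
      map_smul' := fun a x => huniq _ _ fun n => by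
        rw [RingHom.id_apply, D.sec_smul, hy, hy, D.sec_smul]
        exact Scheme.Modules.Hom.app_smul (φ' n) _ _ }
  refine ⟨ModuleCat.ofHom u, fun n => ?_⟩
  have := D.isAffine n
  refine hom_ext_top (D.isQCoh_level M n) (D.isQCoh_level N n) _ _ fun z => ?_
  obtain ⟨x, rfl⟩ := D.sec_surjective M n z
  exact (D.sec_naturality M _ n x).trans (hy x n)

end AffData

end Groth.Agent.FComplLib
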