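import Groth.Agent.FComplLib.Sys
import Groth.Agent.MorLib.Thick.Affine
import Groth.Agent.Adic7.Limit
import Groth.Agent.LocalCrit.Complete
import Groth.Prelude.Def_FSch4
import Mathlib.RingTheory.AdicCompletion.Completeness

/-!
# An adic system with affine Noetherian special fibre is a formal spectrum
-/

universe u

open CategoryTheory CategoryTheory.Limits AlgebraicGeometry

namespace Groth.Agent.FComplLib

open FSch

theorem eq_of_le_sup_pow {R : Type u} [CommRing R] (N F : Ideal R) (n : ℕ) (hn : 1 ≤ n)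
    (hbot : N ^ (n + 2) = ⊥) (hle : N ≤ F ⊔ N ^ (n + 1)) (hge : F ≤ N) : N = F := by
  refine le_antisymm (hle.trans (sup_le le_rfl ?_)) hge
  calc N ^ (n + 1) = N * N ^ n := pow_succ' N n
    _ ≤ (F ⊔ N ^ (n + 1)) * N ^ n := Ideal.mul_mono hle le_rfl
    _ = F * N ^ n ⊔ N ^ (n + 1) * N ^ n := Ideal.sup_mul _ _ _
    _ ≤ F := sup_le Ideal.mul_le_left (by
        rw [show N ^ (n + 1) * N ^ n = N ^ (n + 2) * N ^ (n - 1) from ?_, hbot, Ideal.bot_mul]
        · exact bot_le
        · rw [← pow_add, ← pow_add]; congr 1; omega)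

section

variable {𝔛 : Sys.{u}}

/-- A levelwise isomorphism of systems is an isomorphism. -/
theorem nonempty_iso_of_levelwise {𝔜 : Sys.{u}} (φ : 𝔛 ⟶ 𝔜)
    (h : ∀ n, IsIso ((φ : Hom _ _).app n)) : Nonempty (𝔛 ≅ 𝔜) := by
  refine ⟨⟨φ, ⟨fun n => inv ((φ : Hom _ _).app n), fun n => ?_⟩,
    Hom.ext (funext fun n => IsIso.hom_inv_id _), Hom.ext (funext fun n => IsIso.inv_hom_id _)⟩⟩
  rw [IsIso.inv_comp_eq, ← Category.assoc, (φ : Hom _ _).comm, Category.assoc, IsIso.hom_inv_id,
    Category.comp_id]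

theorem exists_iso_spf (hF : 𝔛.IsFormal) (hA : 𝔛.IsAdic) [IsAffine (𝔛.X 0)]
    [IsLocallyNoetherian (𝔛.X 0)] (h0 : LocFG (𝔛.ι 0).ker) :
    ∃ (A : Type u) (_ : CommRing A) (J : Ideal A),
      IsNoetherianRing A ∧ IsAdicComplete J A ∧ Nonempty (𝔛 ≅ FSch.spf A J) := by
  classical
  have haff : ∀ n, IsAffine (𝔛.X n) := fun n => by
    have := isClosedImmersion_toX hF n
    exact MorLib.Thick.isAffine_of_thickening (𝔛.toX n) (surjective_toX hF n).surj
  have hnoeth := isLocallyNoetherian_level hF hA h0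
  let G : ℕ → Type u := fun n => Γ(𝔛.X n, ⊤)
  have hGN : ∀ n, IsNoetherianRing (G n) := fun n =>
    IsLocallyNoetherian.component_noetherian ⟨⊤, isAffineOpen_top _⟩
  let res : ∀ n, G (n + 1) →+* G n := fun n => (𝔛.ι n).appTop.hom
  have hres : ∀ n, Function.Surjective (res n) := fun n => by
    have := isClosedImmersion_ι hF n
    exact (𝔛.ι n).app_surjective ⊤ (isAffineOpen_top _)
  let N : ∀ n, Ideal (G n) := fun n => (𝔛.toX n).ker.ideal ⟨⊤, isAffineOpen_top _⟩
  have hbot : ∀ n, N n ^ (n + 1) = ⊥ := fun n =>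
    congrFun (congrArg Scheme.IdealSheafData.ideal (pow_ker_toX hF hA n)) ⟨⊤, isAffineOpen_top _⟩
  have hker : ∀ n, RingHom.ker (res n) = N (n + 1) ^ (n + 1) := fun n => by
    have := isClosedImmersion_ι hF n
    have h1 := ideal_ker (𝔛.ι n) ⟨⊤, isAffineOpen_top _⟩
    rw [hA n, Scheme.IdealSheafData.ideal_pow, Pi.pow_apply] at h1
    exact h1.symm
  have hmap : ∀ n, (N (n + 1)).map (res n) = N n := fun n => by
    have h1 := congrArg (fun I => I.ideal ⟨⊤, isAffineOpen_top _⟩) (comap_ker_toX hF n)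
    simp only [ModPairLib.comap_ideal_affine] at h1
    exact h1
  obtain ⟨r, g, hg⟩ :=
    Submodule.fg_iff_exists_fin_generating_family.mp ((hGN 1).noetherian (N 1))
  let y : Fin r → ∀ n, G n := fun i n =>
    Nat.rec (motive := G) 0 (fun m v => Nat.casesOn (motive := fun m => G m → G (m + 1)) m
      (fun _ => g i) (fun m v => Function.surjInv (hres (m + 1)) v) v) n
  have hy0 : ∀ i, y i 0 = 0 := fun i => rfl
  have hy1 : ∀ i, y i 1 = g i := fun i => rfl
  have hy : ∀ i n, res n (y i (n + 1)) = y i n := by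
    intro i n
    cases n with
    | zero =>
      change res 0 (g i) = 0
      rw [← RingHom.mem_ker, hker 0]
      refine (pow_one (N (0 + 1))).symm ▸ ?_
      exact hg ▸ Submodule.subset_span ⟨i, rfl⟩
    | succ n => exact Function.surjInv_eq (hres (n + 1)) _
  have hspan : ∀ n, Ideal.span (Set.range fun i => y i (n + 1)) = N (n + 1) := by
    intro n
    induction n with
    | zero => exact hg
    | succ n ih =>
      set N' := N (n + 1 + 1) with hN'
      have hkN : RingHom.ker (res (n + 1)) ≤ N' :=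
        (hker (n + 1)).le.trans (Ideal.pow_le_self (by omega))
      refine (eq_of_le_sup_pow N' _ (n + 1) (by omega) (hbot _) ?_ ?_).symm
      · intro a ha
        have h1 : res (n + 1) a ∈ (Ideal.span (Set.range fun i => y i (n + 1 + 1))).map (res (n + 1)) := by
          rw [Ideal.map_span, ← Set.range_comp]
          simp only [Function.comp_def, hy]
          rw [ih, ← hmap (n + 1)]
          exact Ideal.mem_map_of_mem _ ha
        rw [← Ideal.mem_comap, Ideal.comap_map_of_surjective' _ (hres (n + 1)), hker (n + 1)] at h1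
        exact h1
      · rw [Ideal.span_le]
        rintro _ ⟨i, rfl⟩
        have h1 : res (n + 1) (y i (n + 1 + 1)) ∈ N'.map (res (n + 1)) := by
          rw [hy, hmap, ← ih]
          exact Ideal.subset_span ⟨i, rfl⟩
        rw [← Ideal.mem_comap, Ideal.comap_map_of_surjective' _ (hres (n + 1)),
          sup_eq_left.mpr hkN] at h1
        exact h1
  let P := MvPolynomial (Fin r) ℤ
  let ev : ∀ n, P →+* G n := fun n =>
    MvPolynomial.eval₂Hom (Int.castRingHom (G n)) fun i => y i n
  letI : ∀ n, Algebra P (G n) := fun n => (ev n).toAlgebra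
  let L := Γsys 𝔛
  let evL : P →+* L :=
    MvPolynomial.eval₂Hom (Int.castRingHom L) fun i => ⟨y i, hy i⟩
  letI : Algebra P L := evL.toAlgebra
  let I : Ideal P := Ideal.span (Set.range MvPolynomial.X)
  have hI : I.FG := Submodule.fg_span (Set.finite_range _)
  have hIn : ∀ n, I.map (algebraMap P (G (n + 1))) = N (n + 1) := fun n => by
    rw [← hspan n, Ideal.map_span, ← Set.range_comp]
    congr 1
    congr 1
    funext i
    exact MvPolynomial.eval₂Hom_X' _ _ i
  have hfc : ∀ n, (res n).comp (ev (n + 1)) = ev n := fun n =>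
    MvPolynomial.ringHom_ext (fun k => by simp [ev]) fun i => by simp [ev, hy]
  let f : ∀ n, G (n + 1) →ₗ[P] G n := fun n =>
    ({ res n with commutes' := fun p => RingHom.congr_fun (hfc n) p } : G (n + 1) →ₐ[P] G n).toLinearMap
  have hπc : ∀ n, (ΓsysProj 𝔛 n).comp evL = ev n := fun n =>
    MvPolynomial.ringHom_ext (fun k => by simp [ev, evL]) fun i => by
      rw [RingHom.comp_apply, MvPolynomial.eval₂Hom_X', MvPolynomial.eval₂Hom_X']
      rfl
  let π : ∀ n, L →ₗ[P] G n := fun n =>
    ({ ΓsysProj 𝔛 n with commutes' := fun p => RingHom.congr_fun (hπc n) p } : L →ₐ[P] G n).toLinearMap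
  obtain ⟨hcomp, hπ, -⟩ := Adic7.limit_quotient_system P I hI G f hres (fun n => by
      refine SetLike.ext fun x => ?_
      rw [LinearMap.mem_ker, Ideal.smul_top_eq_map, Submodule.restrictScalars_mem, Ideal.map_pow,
        hIn n, ← hker n]
      rfl)
    L π (fun n => LinearMap.ext fun s => s.2 n) (fun s hs => Subtype.ext (funext hs))
    (fun s hs => ⟨⟨s, hs⟩, fun n => rfl⟩)
  set J : Ideal L := I.map (algebraMap P L)
  have hJker : ∀ n, RingHom.ker (ΓsysProj 𝔛 n) = J ^ (n + 1) := fun n => by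
    refine SetLike.ext fun s => ?_
    rw [← Ideal.map_pow]
    exact (SetLike.ext_iff.mp (hπ n).2 s).trans
      (by rw [Ideal.smul_top_eq_map, Submodule.restrictScalars_mem])
  have hJ : IsAdicComplete J L := (IsAdicComplete.map_algebraMap_iff (R := P) (S := L) (M := L) (I := I)).mpr hcomp
  let e : ∀ n, L ⧸ J ^ (n + 1) →+* G n := fun n =>
    Ideal.Quotient.lift _ (ΓsysProj 𝔛 n) fun a ha => by rwa [← hJker n, RingHom.mem_ker] at ha
  have he : ∀ n, Function.Bijective (e n) := fun n =>
    ⟨RingHom.lift_injective_of_ker_le_ideal _ _ (hJker n).le,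
      Ideal.Quotient.lift_surjective_of_surjective _ _ (hπ n).1⟩
  have : IsNoetherianRing (L ⧸ J) := by
    have h1 : J ^ (0 + 1) = J := by rw [zero_add, pow_one]
    have := hGN 0
    exact isNoetherianRing_of_ringEquiv (G 0)
      ((RingEquiv.ofBijective (e 0) (he 0)).symm.trans (Ideal.quotEquivOfEq h1))
  refine ⟨L, inferInstance, J, LocalCrit.isNoetherianRing_of_isAdicComplete J (hI.map _), hJ, ?_⟩
  have hiso : ∀ n, IsIso (Spec.map (CommRingCat.ofHom (e n))) := fun n => by
    have : IsIso (CommRingCat.ofHom (e n)) :=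
      (RingEquiv.ofBijective (e n) (he n)).toCommRingCatIso.isIso_hom
    infer_instance
  refine nonempty_iso_of_levelwise
    (⟨fun n => (𝔛.X n).toSpecΓ ≫ Spec.map (CommRingCat.ofHom (e n)), fun n => ?_⟩ : Hom 𝔛 (spf L J))
    fun n => ?_
  · change (_ ≫ Spec.map _) ≫ CohB1.specQuotTrans J n = _
    rw [Category.assoc, CohB1.specQuotTrans, ← Spec.map_comp, Scheme.toSpecΓ_naturality_assoc]
    congr 1
    refine Eq.trans ?_ (Spec.map_comp _ _)
    congr 1
    refine CommRingCat.hom_ext (Ideal.Quotient.ringHom_ext (RingHom.ext fun s => ?_))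
    exact (s.2 n).symm
  · have := hiso n
    exact inferInstanceAs (IsIso ((𝔛.X n).toSpecΓ ≫ Spec.map (CommRingCat.ofHom (e n))))

end

end Groth.Agent.FComplLib
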