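import Groth.Agent.FComplLib.AdicUnit
import Mathlib.RingTheory.Localization.Away.Basic
import Mathlib.RingTheory.Localization.Ideal

/-!
# Levels of a completed localisation
-/

universe u

namespace Groth.Agent.FComplLib

theorem exists_ringEquiv_cAway (A : Type u) [CommRing A] [IsNoetherianRing A] (J : Ideal A)
    (f : A) (n : ℕ) :
    ∃ e : Localization.Away (Ideal.Quotient.mk (J ^ (n + 1)) f) ≃+*
        FSch.cAway A J f ⧸ (J.map (algebraMap A (FSch.cAway A J f))) ^ (n + 1),
      ∀ a : A, e (algebraMap (A ⧸ J ^ (n + 1)) _ (Ideal.Quotient.mk (J ^ (n + 1)) a)) =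
        Ideal.Quotient.mk _ (algebraMap A (FSch.cAway A J f) a) := by
  let Af := Localization.Away f
  set JA := J.map (algebraMap A Af)
  let B := FSch.cAway A J f
  have : IsNoetherianRing Af := IsLocalization.isNoetherianRing (Submonoid.powers f) Af inferInstance
  set N : Ideal B := (J.map (algebraMap A B)) ^ (n + 1) with hN
  have halg : ∀ a, algebraMap A B a = algebraMap Af B (algebraMap A Af a) := fun a => rfl
  have hN' : N = (JA ^ (n + 1)).map (algebraMap Af B) := by
    rw [hN, Ideal.map_pow, Ideal.map_map]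
    rfl
  have hzero : ∀ x : Af, algebraMap Af B x ∈ N ↔ x ∈ JA ^ (n + 1) := fun x => by
    rw [hN', ← evalₐ_eq_zero_iff JA (IsNoetherian.noetherian JA), evalₐ_algebraMap,
      Ideal.Quotient.eq_zero_iff_mem]
  let g₀ : A ⧸ J ^ (n + 1) →+* B ⧸ N :=
    Ideal.Quotient.lift _ ((Ideal.Quotient.mk N).comp (algebraMap A B)) fun a ha => by
      rw [RingHom.comp_apply, Ideal.Quotient.eq_zero_iff_mem, hN, ← Ideal.map_pow]
      exact Ideal.mem_map_of_mem _ ha
  have hu : IsUnit (g₀ (Ideal.Quotient.mk (J ^ (n + 1)) f)) := by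
    change IsUnit (Ideal.Quotient.mk N (algebraMap Af B (algebraMap A Af f)))
    exact ((IsLocalization.Away.algebraMap_isUnit f).map _).map _
  let g := IsLocalization.Away.lift
    (S := Localization.Away (Ideal.Quotient.mk (J ^ (n + 1)) f)) (Ideal.Quotient.mk (J ^ (n + 1)) f) hu
  have hg : ∀ a, g (algebraMap _ _ (Ideal.Quotient.mk (J ^ (n + 1)) a)) =
      Ideal.Quotient.mk N (algebraMap A B a) := fun a => IsLocalization.Away.lift_eq _ hu _
  have hinj : Function.Injective g := by
    refine (injective_iff_map_eq_zero g).mpr fun z hz => ?_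
    obtain ⟨k, q, hq⟩ := IsLocalization.Away.surj (Ideal.Quotient.mk (J ^ (n + 1)) f) z
    obtain ⟨a, rfl⟩ := Ideal.Quotient.mk_surjective q
    have h1 := congrArg g hq
    rw [map_mul, hz, zero_mul, hg] at h1
    have h2 : algebraMap Af B (algebraMap A Af a) ∈ N := Ideal.Quotient.eq_zero_iff_mem.mp h1.symm
    rw [hzero, ← Ideal.map_pow,
      IsLocalization.algebraMap_mem_map_algebraMap_iff (Submonoid.powers f)] at h2
    obtain ⟨_, ⟨m, rfl⟩, hm⟩ := h2
    have hfu : IsUnit (algebraMap (A ⧸ J ^ (n + 1))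
        (Localization.Away (Ideal.Quotient.mk (J ^ (n + 1)) f)) (Ideal.Quotient.mk _ f)) :=
      IsLocalization.Away.algebraMap_isUnit _
    have h3 : algebraMap (A ⧸ J ^ (n + 1))
        (Localization.Away (Ideal.Quotient.mk (J ^ (n + 1)) f)) (Ideal.Quotient.mk _ a) = 0 := by
      have h4 : Ideal.Quotient.mk (J ^ (n + 1)) f ^ m * Ideal.Quotient.mk _ a = 0 := by
        rw [← map_pow, ← map_mul]
        exact Ideal.Quotient.eq_zero_iff_mem.mpr hm
      have h5 := congrArg (algebraMap _ (Localization.Away (Ideal.Quotient.mk (J ^ (n + 1)) f))) h4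
      rw [map_mul, map_pow, map_zero] at h5
      exact (hfu.pow m).mul_right_eq_zero.mp h5
    rw [h3] at hq
    exact (hfu.pow k).mul_left_eq_zero.mp hq
  have hsurj : Function.Surjective g := by
    intro q
    obtain ⟨x, rfl⟩ := Ideal.Quotient.mk_surjective q
    obtain ⟨y, hy⟩ := Ideal.Quotient.mk_surjective (AdicCompletion.evalₐ JA (n + 1) x)
    obtain ⟨k, a, ha⟩ := IsLocalization.Away.surj f y
    have hfu : IsUnit (algebraMap (A ⧸ J ^ (n + 1))
        (Localization.Away (Ideal.Quotient.mk (J ^ (n + 1)) f)) (Ideal.Quotient.mk _ f)) :=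
      IsLocalization.Away.algebraMap_isUnit _
    obtain ⟨v, hv⟩ := (hfu.pow k).exists_right_inv
    refine ⟨algebraMap _ _ (Ideal.Quotient.mk (J ^ (n + 1)) a) * v, ?_⟩
    have hx : Ideal.Quotient.mk N x = Ideal.Quotient.mk N (algebraMap Af B y) := by
      rw [Ideal.Quotient.eq, hN', ← evalₐ_eq_zero_iff JA (IsNoetherian.noetherian JA), map_sub,
        evalₐ_algebraMap, hy, sub_self]
    rw [hx]
    refine ((hfu.pow k).map g).mul_left_injective ?_
    change g _ * g _ = Ideal.Quotient.mk N (algebraMap Af B y) * g _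
    rw [← map_mul, mul_assoc, mul_comm v, hv, mul_one, hg, map_pow, hg, halg f, halg a, ← ha,
      map_mul, map_mul, map_pow, map_pow]
  exact ⟨RingEquiv.ofBijective g ⟨hinj, hsurj⟩, hg⟩

end Groth.Agent.FComplLib
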