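import Mathlib.RingTheory.Filtration
import Mathlib.RingTheory.Nakayama
import Mathlib.RingTheory.Finiteness.Basic
import Mathlib.Algebra.Module.LocalizedModule.Basic
import Mathlib.RingTheory.Localization.Integer
import Mathlib.Algebra.Module.Projective

/-!
# Freeness near a closed subset from freeness on all its thickenings
-/

universe u

namespace Groth.Agent.FComplLib

variable {A N : Type u} [CommRing A] [AddCommGroup N] [Module A N] {r : ℕ}

theorem exists_away_of_complete (J : Ideal A) [IsNoetherianRing A] [Module.Finite A N]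
    (Φ : (Fin r → A) →ₗ[A] N) (hsurj : ∀ z, ∃ y, z - Φ y ∈ J • (⊤ : Submodule A N))
    (hker : ∀ y, Φ y = 0 → ∀ m : ℕ, y ∈ J ^ m • (⊤ : Submodule A (Fin r → A))) :
    ∃ g : A, g - 1 ∈ J ∧ (∀ z, ∃ y, g • z = Φ y) ∧ ∀ y, Φ y = 0 → g • y = 0 := by
  obtain ⟨a, ha, ha'⟩ := Submodule.exists_sub_one_mem_and_smul_eq_zero_of_fg_of_le_smul J
    (⊤ : Submodule A (N ⧸ LinearMap.range Φ)) Module.Finite.fg_top (fun w _ => by
      obtain ⟨z, rfl⟩ := Submodule.mkQ_surjective _ w
      obtain ⟨y, hy⟩ := hsurj z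
      have h := Submodule.mem_map_of_mem (f := (LinearMap.range Φ).mkQ) hy
      rw [Submodule.map_smul'', Submodule.map_top, Submodule.range_mkQ, map_sub] at h
      rwa [show (LinearMap.range Φ).mkQ (Φ y) = 0 from
        (Submodule.Quotient.mk_eq_zero _).mpr ⟨y, rfl⟩, sub_zero] at h)
  obtain ⟨b, hb, hb'⟩ := Submodule.exists_sub_one_mem_and_smul_eq_zero_of_fg_of_le_smul J
    (LinearMap.ker Φ) (IsNoetherian.noetherian _) (fun y hy => by
      obtain ⟨c, hc⟩ := (J.mem_iInf_smul_pow_eq_bot_iff y).mp (Submodule.mem_iInf _ |>.mpr (hker y hy))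
      exact hc ▸ Submodule.smul_mem_smul c.2 hy)
  refine ⟨a * b, ?_, fun z => ?_, fun y hy => ?_⟩
  · rw [show a * b - 1 = (a - 1) * b + (b - 1) by ring]
    exact add_mem (Ideal.mul_mem_right _ _ ha) hb
  · obtain ⟨y, hy⟩ := (Submodule.Quotient.mk_eq_zero _).mp
      ((Submodule.Quotient.mk_smul _ a z).trans (ha' ((LinearMap.range Φ).mkQ z) trivial))
    exact ⟨b • y, by rw [map_smul, hy, ← mul_smul, mul_comm]⟩
  · rw [mul_smul, hb' y hy, smul_zero]

/-- Coordinates of a map that is bijective modulo `g`-torsion become bijective after inverting `g`. -/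
theorem bijective_localized {A' N' : Type u} [CommRing A'] [Algebra A A'] [AddCommGroup N']
    [Module A N'] [Module A' N'] [IsScalarTower A A' N'] (g : A) [IsLocalization (Submonoid.powers g) A']
    (ρ : N →ₗ[A] N') [IsLocalizedModule (Submonoid.powers g) ρ] (v : Fin r → N)
    (h1 : ∀ z, ∃ y, g • z = Fintype.linearCombination A v y)
    (h2 : ∀ y, Fintype.linearCombination A v y = 0 → g • y = 0) :
    Function.Bijective (Fintype.linearCombination A' (fun i => ρ (v i))) := by
  have hΨ : ∀ y : Fin r → A, Fintype.linearCombination A' (fun i => ρ (v i)) (fun i => algebraMap A A' (y i)) =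
      ρ (Fintype.linearCombination A v y) := fun y => by
    simp [Fintype.linearCombination_apply, map_sum, map_smul, algebraMap_smul]
  have hu : IsUnit (algebraMap A A' g) :=
    IsLocalization.map_units A' (⟨g, Submonoid.mem_powers g⟩ : Submonoid.powers g)
  refine ⟨(injective_iff_map_eq_zero _).mpr fun a ha => ?_, fun w => ?_⟩
  · obtain ⟨s, hs⟩ := IsLocalization.exist_integer_multiples_of_finite (Submonoid.powers g) a
    choose y hy using hs
    have hsa : (fun i => algebraMap A A' (y i)) = algebraMap A A' s.1 • a := funext fun i => by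
      rw [hy i, Pi.smul_apply, smul_eq_mul, Algebra.smul_def]
    have h0 := hΨ y
    rw [hsa, map_smul, ha, smul_zero] at h0
    obtain ⟨t, ht⟩ := (IsLocalizedModule.eq_zero_iff (Submonoid.powers g) ρ).mp h0.symm
    rw [Submonoid.smul_def, ← map_smul] at ht
    have h3 := h2 _ ht
    funext i
    have h4 := congrArg (fun f => algebraMap A A' (f i)) h3
    simp only [Pi.smul_apply, smul_eq_mul, map_mul, Pi.zero_apply, map_zero, hy i] at h4
    rw [Algebra.smul_def, ← mul_assoc, ← mul_assoc] at h4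
    exact ((hu.mul (IsLocalization.map_units A' t)).mul (IsLocalization.map_units A' s)).mul_right_eq_zero.mp h4
  · obtain ⟨⟨z, s⟩, hs⟩ := IsLocalizedModule.surj (Submonoid.powers g) ρ w
    obtain ⟨y, hy⟩ := h1 z
    obtain ⟨d, hd⟩ := (hu.mul (IsLocalization.map_units A' s)).exists_left_inv
    refine ⟨d • fun i => algebraMap A A' (y i), ?_⟩
    rw [map_smul, hΨ, ← hy, map_smul]
    rw [show g • ρ z = algebraMap A A' g • ρ z from (algebraMap_smul A' g _).symm, ← hs,
      Submonoid.smul_def, ← algebraMap_smul A' (s : A) w, smul_smul, smul_smul, mul_assoc, hd, one_smul]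

/-- The kernel lies in `J ^ k` when the quotient modulo `J ^ k` is projective. -/
theorem ker_mem_pow {B L : Type u} [CommRing B] [AddCommGroup L] [Module B L] [Module.Projective B L]
    (J : Ideal A) (k : ℕ) (q : A →+* B) (hq : Function.Surjective q)
    (hqk : ∀ a, q a = 0 → a ∈ J ^ k) (hqJ : ∀ a ∈ J ^ k, q a = 0) (π : N →+ L) (hπ : Function.Surjective π)
    (hπs : ∀ a z, π (a • z) = q a • π z) (hπk : ∀ z ∈ J ^ k • (⊤ : Submodule A N), π z = 0)
    (Φ : (Fin r → A) →ₗ[A] N) (hsurj : ∀ z, ∃ y, z - Φ y ∈ J • (⊤ : Submodule A N))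
    (hinj : ∀ y, Φ y ∈ J • (⊤ : Submodule A N) → ∀ i, y i ∈ J)
    (hπJ : ∀ z, π z = 0 → z ∈ J • (⊤ : Submodule A N)) :
    ∀ y, Φ y = 0 → ∀ i, y i ∈ J ^ k := by
  let b : Fin r → L := fun i => π (Φ (Pi.single i 1))
  let Ψ : (Fin r → B) →ₗ[B] L := Fintype.linearCombination B b
  have hΨ : ∀ y : Fin r → A, Ψ (fun i => q (y i)) = π (Φ y) := fun y => by
    conv_rhs => rw [pi_eq_sum_univ' y]
    simp [Ψ, b, Fintype.linearCombination_apply, map_sum, hπs]
  have hsurjΨ : Function.Surjective Ψ := by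
    have key : ∀ (m : ℕ) z, ∃ y, z - Φ y ∈ J ^ m • (⊤ : Submodule A N) := by
      intro m
      induction m with
      | zero => exact fun z => ⟨0, by simp⟩
      | succ m ih =>
        intro z
        obtain ⟨y, hy⟩ := ih z
        have h : ∀ w ∈ J ^ m • (⊤ : Submodule A N), ∃ y, w - Φ y ∈ J ^ (m + 1) • (⊤ : Submodule A N) := by
          intro w hw
          refine Submodule.smul_induction_on hw (fun a ha t _ => ?_) (fun w w' hw hw' => ?_)
          · obtain ⟨y, hy⟩ := hsurj t
            refine ⟨a • y, ?_⟩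
            rw [map_smul, ← smul_sub, pow_succ, Submodule.mul_smul]
            exact Submodule.smul_mem_smul ha hy
          · obtain ⟨y, hy⟩ := hw
            obtain ⟨y', hy'⟩ := hw'
            exact ⟨y + y', by rw [map_add, add_sub_add_comm]; exact add_mem hy hy'⟩
        obtain ⟨y', hy'⟩ := h _ hy
        exact ⟨y + y', by rwa [map_add, ← sub_sub]⟩
    intro l
    obtain ⟨z, rfl⟩ := hπ l
    obtain ⟨y, hy⟩ := key k z
    exact ⟨_, (hΨ y).trans (by rw [← sub_eq_zero, ← neg_sub, ← map_sub, hπk _ hy, neg_zero])⟩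
  obtain ⟨s, hs⟩ := Module.projective_lifting_property Ψ LinearMap.id hsurjΨ
  let e : (Fin r → B) →ₗ[B] Fin r → B := LinearMap.id - s ∘ₗ Ψ
  have hes : ∀ y, Ψ (e y) = 0 := fun y => by
    simp only [e, LinearMap.sub_apply, LinearMap.id_apply, LinearMap.comp_apply, map_sub]
    rw [show Ψ (s (Ψ y)) = Ψ y from LinearMap.congr_fun hs (Ψ y), sub_self]
  have hK : ∀ (y : Fin r → B), Ψ y = 0 → ∀ m i, y i ∈ J.map q ^ m := by
    have h1 : ∀ y : Fin r → B, Ψ y = 0 → ∀ i, y i ∈ J.map q := by
      intro y hy i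
      choose a ha using fun i => hq (y i)
      rw [← ha i]
      refine Ideal.mem_map_of_mem q (hinj a (hπJ _ ?_) i)
      rw [← hΨ, funext ha, hy]
    intro y hy m
    induction m generalizing y with
    | zero => simp
    | succ m ih =>
      intro i
      have he : e y = y := by simp [e, hy]
      rw [← he, pi_eq_sum_univ' y, map_sum, Finset.sum_apply]
      refine sum_mem fun j _ => ?_
      rw [map_smul, Pi.smul_apply, smul_eq_mul, pow_succ']
      exact Ideal.mul_mem_mul (h1 y hy j) (ih _ (hes _) i)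
  intro y hy i
  refine hqk _ ?_
  have h := hK (fun i => q (y i)) (by rw [hΨ, hy, map_zero]) k i
  rw [← Ideal.map_pow] at h
  obtain ⟨a, ha, hai⟩ := (Ideal.mem_map_iff_of_surjective q hq).mp h
  rw [← hai, hqJ a ha]

theorem mem_smul_top_pi (I : Ideal A) (y : Fin r → A) (h : ∀ i, y i ∈ I) :
    y ∈ I • (⊤ : Submodule A (Fin r → A)) := by
  rw [pi_eq_sum_univ' y]
  exact sum_mem fun i _ => Submodule.smul_mem_smul (h i) trivial

end Groth.Agent.FComplLib
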