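import Groth.Agent.FComplLib.FreeLift
import Groth.Agent.QCoh.LocFree
import Groth.Agent.QCoh.ClosedPush
import Groth.Prelude.Def_FSch3

/-!
# Local freeness from the thickenings of a closed subscheme
-/

universe u

set_option backward.isDefEq.respectTransparency false
set_option backward.isDefEq.respectTransparency.types false

open CategoryTheory CategoryTheory.Limits AlgebraicGeometry TopologicalSpace Opposite

namespace Groth.Agent.FComplLib

theorem exists_free_of_levels {X : Scheme.{u}} [IsLocallyNoetherian X] {F : X.Modules}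
    (hF : Coh.IsCoh F) (𝓘 : X.IdealSheafData) (r : ℕ)
    (h : ∀ n : ℕ, FlatMod.IsFinLocFreeOfRank r
      ((Scheme.Modules.pullback (FSch.completionToX X 𝓘 n)).obj F)) {x : X}
    (hx : x ∈ (𝓘.support : Set X)) :
    ∃ O : X.Opens, x ∈ O ∧ Nonempty (F.restrict O.ι ≅ FlatMod.freeMod (O : Scheme.{u}) r) := by
  classical
  let i : ∀ n, (FSch.completionAlong X 𝓘).X n ⟶ X := FSch.completionToX X 𝓘
  have hcl : ∀ n, IsClosedImmersion (i n) := fun n =>
    inferInstanceAs (IsClosedImmersion (𝓘 ^ (n + 1)).subschemeι)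
  have hrange : Set.range (i 0) = (𝓘.support : Set X) :=
    ((𝓘 ^ (0 + 1)).range_subschemeι).trans (by rw [Scheme.IdealSheafData.support_pow_succ])
  obtain ⟨z, hz⟩ : x ∈ Set.range (i 0) := hrange ▸ hx
  obtain ⟨W, hzW, ⟨e⟩⟩ := h 0 z
  obtain ⟨O, hO, hOW⟩ := (hcl 0).isClosedEmbedding.isInducing.isOpen_iff.1 W.2
  obtain ⟨_, ⟨U, hU', rfl⟩, hxU, hUO⟩ := X.isBasis_affineOpens.exists_subset_of_mem_open
    (show x ∈ O from hz ▸ (show z ∈ i 0 ⁻¹' O by rw [hOW]; exact hzW)) hO
  have hU : IsAffineOpen U := hU'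
  have hV : ∀ n, IsAffineOpen (i n ⁻¹ᵁ U) := fun n => hU.preimage (i n)
  have hVW : i 0 ⁻¹ᵁ U ≤ W := fun y hy => by
    have : y ∈ i 0 ⁻¹' O := hUO hy
    rwa [hOW] at this
  have : IsNoetherianRing Γ(X, U) := IsLocallyNoetherian.component_noetherian ⟨U, hU⟩
  have := QCoh.finite_sections hF hU
  let J : Ideal Γ(X, U) := 𝓘.ideal ⟨U, hU⟩
  let q := fun n => ((i n).app U).hom
  let π : ∀ n, Γ(F, U) →+ Γ((Scheme.Modules.pullback (i n)).obj F, i n ⁻¹ᵁ U) := fun n =>
    (((Scheme.Modules.pullbackPushforwardAdjunction (i n)).unit.app F).app U).hom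
  have hπ : ∀ n, Function.Surjective (π n) := fun n => (QCoh.unit_app_closed (i n) hF.1 hU).1
  have hker : ∀ n, (i n).ker.ideal ⟨U, hU⟩ = J ^ (n + 1) := fun n => by
    rw [show (i n).ker = 𝓘 ^ (n + 1) from Scheme.IdealSheafData.ker_subschemeι _,
      Scheme.IdealSheafData.ideal_pow, Pi.pow_apply]
  have hπk : ∀ n z, π n z = 0 ↔ z ∈ J ^ (n + 1) • (⊤ : Submodule Γ(X, U) Γ(F, U)) := fun n z => by
    rw [← hker n]
    exact (QCoh.unit_app_closed (i n) hF.1 hU).2 z
  have hq : ∀ n, Function.Surjective (q n) := fun n => (i n).app_surjective U hU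
  have hqk : ∀ n a, q n a = 0 ↔ a ∈ J ^ (n + 1) := fun n a => by
    rw [← hker n, Scheme.Hom.ker_apply, RingHom.mem_ker]
  have hπs : ∀ n a z, π n (a • z) = q n a • π n z := fun n a z =>
    Scheme.Modules.Hom.app_smul ((Scheme.Modules.pullbackPushforwardAdjunction (i n)).unit.app F) a z
  obtain ⟨l⟩ := QCoh.free_sections (hV 0) hVW e
  let l' := (l.trans (Finsupp.linearEquivFunOnFinite _ _ (ULift.{u} (Fin r)))).trans
    (LinearEquiv.funCongrLeft _ _ Equiv.ulift.symm)
  choose v hv using fun k : Fin r => hπ 0 (l'.symm (Pi.single k 1))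
  let Φ := Fintype.linearCombination Γ(X, U) v
  have hΦ : ∀ y, π 0 (Φ y) = l'.symm (fun k => q 0 (y k)) := fun y => by
    rw [pi_eq_sum_univ' (fun k => q 0 (y k))]
    simp only [Φ, Fintype.linearCombination_apply, map_sum, hπs, hv, map_smul]
  have hsurj : ∀ z, ∃ y, z - Φ y ∈ J • (⊤ : Submodule Γ(X, U) Γ(F, U)) := fun z => by
    choose y hy using fun k => hq 0 (l' (π 0 z) k)
    refine ⟨y, ?_⟩
    have := (hπk 0 (z - Φ y)).1 (by rw [map_sub, hΦ, funext hy, l'.symm_apply_apply, sub_self])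
    rwa [zero_add, pow_one] at this
  have hinj : ∀ y, Φ y ∈ J • (⊤ : Submodule Γ(X, U) Γ(F, U)) → ∀ k, y k ∈ J := fun y hy k => by
    have h0 : π 0 (Φ y) = 0 := (hπk 0 _).2 (by rwa [zero_add, pow_one])
    rw [hΦ, LinearEquiv.map_eq_zero_iff] at h0
    have := (hqk 0 _).1 (congrFun h0 k)
    rwa [zero_add, pow_one] at this
  obtain ⟨g, hg, h1, h2⟩ := exists_away_of_complete J Φ hsurj (fun y hy m => by
    refine mem_smul_top_pi _ _ fun k => Ideal.pow_le_pow_right m.le_succ ?_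
    have hlf : FlatMod.IsFinLocFree ((Scheme.Modules.pullback (i m)).obj F) := fun w =>
      let ⟨U', hw, he⟩ := h m w; ⟨U', r, hw, he⟩
    have := QCoh.finitePresentation_of_isFP (QCoh.isFP_of_isFinLocFree hlf) (hV m)
    have : Module.Flat Γ((FSch.completionAlong X 𝓘).X m, i m ⁻¹ᵁ U)
        Γ((Scheme.Modules.pullback (i m)).obj F, i m ⁻¹ᵁ U) :=
      (QCoh.flat_sections_iff (QCoh.isQCoh_of_isFinLocFree hlf) (hV m)).2 fun w _ =>
        (QCoh.isFlat_and_isFP_iff.2 hlf).1 w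
    have : Module.Projective Γ((FSch.completionAlong X 𝓘).X m, i m ⁻¹ᵁ U)
        Γ((Scheme.Modules.pullback (i m)).obj F, i m ⁻¹ᵁ U) := Module.Flat.projective_of_finitePresentation
    exact ker_mem_pow J (m + 1) (q m) (hq m) (fun a => (hqk m a).1) (fun a => (hqk m a).2) (π m)
      (hπ m) (hπs m) (fun w => (hπk m w).2) Φ hsurj hinj
      (fun w hw => Submodule.smul_mono (Ideal.pow_le_self m.succ_ne_zero) le_rfl ((hπk m w).1 hw)) y hy k)
  have hxg : x ∈ X.basicOpen g := by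
    refine (QCoh.mem_basicOpen_iff_notMem hU hxU g).2 fun hgp => ?_
    have hJp : J ≤ (hU.primeIdealOf ⟨x, hxU⟩).asIdeal := fun a ha => by
      by_contra hn
      have := (Scheme.IdealSheafData.mem_support_iff_of_mem (U := ⟨U, hU⟩) hxU).1 hx
      rw [Scheme.mem_zeroLocus_iff] at this
      exact this a ha ((QCoh.mem_basicOpen_iff_notMem hU hxU a).2 hn)
    exact (hU.primeIdealOf ⟨x, hxU⟩).isPrime.ne_top ((Ideal.eq_top_iff_one _).2
      (by simpa using sub_mem hgp (hJp hg)))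
  letI := QCoh.basicModule g F
  haveI := hU.isLocalization_basicOpen g
  haveI := QCoh.isLocalizedModule_basicRes g hF.1 hU
  haveI : IsScalarTower Γ(X, U) Γ(X, X.basicOpen g) Γ(F, X.basicOpen g) :=
    IsScalarTower.of_algebraMap_smul fun _ _ => rfl
  have hb := bijective_localized (A' := Γ(X, X.basicOpen g)) g (QCoh.basicRes g F) v h1 h2
  exact ⟨X.basicOpen g, hxg, QCoh.exists_free_restrict hF.1 (hU.basicOpen g)
    ((LinearEquiv.ofBijective _ hb).symm.trans ((LinearEquiv.funCongrLeft _ _ Equiv.ulift).trans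
      (Finsupp.linearEquivFunOnFinite _ _ (ULift.{u} (Fin r))).symm))⟩

end Groth.Agent.FComplLib
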