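import Groth.Agent.FComplLib.Sys
import Groth.Agent.MorLib.Thick.QuasiAffine
import Groth.Prelude.Def_FSch5
import Mathlib.CategoryTheory.Sites.Limits

/-!
# Sections of the structure sheaf of a formal scheme over affine opens
-/

universe u

open CategoryTheory CategoryTheory.Limits AlgebraicGeometry Opposite

namespace Groth.Agent.FComplLib

theorem exists_section (F : ℕᵒᵖ ⥤ Type u)
    (hF : ∀ n : ℕ, Function.Surjective (F.map (homOfLE (Nat.le_add_right n 1)).op)) (i : ℕ)
    (z : F.obj (op i)) : ∃ s : F.sections, (s : ∀ j, F.obj j) (op i) = z := by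
  let r : ∀ {a b : ℕ}, a ≤ b → F.obj (op b) → F.obj (op a) := fun h => F.map (homOfLE h).op
  have hr : ∀ {a b c : ℕ} (h₁ : a ≤ b) (h₂ : b ≤ c) (x : F.obj (op c)),
      r h₁ (r h₂ x) = r (h₁.trans h₂) x := by
    intro a b c h₁ h₂ x
    simp only [r]
    rw [show (homOfLE (h₁.trans h₂)).op = (homOfLE h₂).op ≫ (homOfLE h₁).op from rfl, F.map_comp]
    rfl
  have hid : ∀ {a : ℕ} (x : F.obj (op a)), r (le_refl a) x = x := by
    intro a x
    simp only [r]
    rw [show (homOfLE (le_refl a)).op = 𝟙 (op a) from rfl, F.map_id]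
    rfl
  let Y : ∀ d, F.obj (op (i + d)) := fun d =>
    Nat.rec z (fun d v => Function.surjInv (hF (i + d)) v) d
  have hY : ∀ d, r (Nat.le_add_right (i + d) 1) (Y (d + 1)) = Y d :=
    fun d => Function.surjInv_eq (hF (i + d)) (Y d)
  let s : ∀ m, F.obj (op m) := fun m => r (Nat.le_add_left m i) (Y m)
  have hs : ∀ a b (h : a ≤ b), r h (s b) = s a := by
    intro a b h
    induction b, h using Nat.le_induction with
    | base => exact hid _
    | succ b hab ih =>
      rw [← ih]
      simp only [s, hr]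
      rw [← hY b, hr]
  have hYi : ∀ d, r (Nat.le_add_right i d) (Y d) = z := by
    intro d
    induction d with
    | zero => exact hid _
    | succ d ih => rw [← ih, ← hY d, hr]
  refine ⟨⟨fun j => s j.unop, fun {a b} f => ?_⟩, hYi i⟩
  have : f = (homOfLE (leOfHom f.unop)).op := Subsingleton.elim _ _
  rw [this]
  exact hs _ _ _

theorem surjective_OshProj_app (𝔛 : FSch.Sys.{u}) (h : 𝔛.IsFormal) (i : ℕ)
    (U : (𝔛.X 0).Opens) (hU : IsAffineOpen U) :
    Function.Surjective ((𝔛.OshProj h i).hom.app (op U)) := by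
  have haff : ∀ n, IsAffineOpen (𝔛.lvU h n U) := by
    intro n
    have := isClosedImmersion_toX h n
    refine MorLib.Thick.isAffineOpen_of_preimage (𝔛.toX n) (surjective_toX h n).surj ?_
    convert hU using 1
    change (TopologicalSpace.Opens.map ((𝔛.toX n).base ≫ 𝔛.gInv h n)).obj U = U
    rw [FSch.Sys.toX_base_gInv]
    rfl
  have hstep : ∀ n, Function.Surjective ((𝔛.levelMap h n).hom.app (op U)) := by
    intro n
    have := (h n).1
    change Function.Surjective ((𝔛.ι n).appLE (𝔛.lvU h (n + 1) U) (𝔛.lvU h n U) (𝔛.lvU_le h n U))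
    have hbij : ∀ (V : (𝔛.X n).Opens) (e : V = (𝔛.ι n) ⁻¹ᵁ 𝔛.lvU h (n + 1) U),
        Function.Surjective ((𝔛.ι n).appLE (𝔛.lvU h (n + 1) U) V e.le) := by
      rintro V rfl
      rw [← Scheme.Hom.app_eq_appLE]
      exact (𝔛.ι n).app_surjective _ (haff (n + 1))
    exact hbij _ (𝔛.lvU_succ h n U).symm
  let G : Sheaf (Opens.grothendieckTopology (𝔛.X 0)) CommRingCat.{u} ⥤ Type u :=
    sheafToPresheaf _ _ ⋙ (evaluation _ _).obj (op U) ⋙ CategoryTheory.forget CommRingCat.{u}
  have hlim : IsLimit (G.mapCone (limit.cone (𝔛.levelRing h))) :=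
    isLimitOfPreserves G (limit.isLimit _)
  intro z
  obtain ⟨s, hs⟩ := exists_section (𝔛.levelRing h ⋙ G) (fun n => by
    rw [Functor.comp_map, FSch.Sys.levelRing_map_succ]
    exact hstep n) i z
  exact ⟨(Types.isLimitEquivSections hlim).symm s,
    (Types.isLimitEquivSections_symm_apply hlim s (op i)).trans hs⟩

end Groth.Agent.FComplLib
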