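import Mathlib.LinearAlgebra.BilinearForm.Orthogonal
import Mathlib.LinearAlgebra.Dual.Lemmas
import Mathlib.LinearAlgebra.FreeModule.PID
import Mathlib.LinearAlgebra.FreeModule.Finite.Basic
import Mathlib.Algebra.Module.Projective
import Mathlib.RingTheory.Finiteness.Basic
import Mathlib.LinearAlgebra.Dimension.Finite
import Mathlib.LinearAlgebra.Dimension.Constructions
import Mathlib.LinearAlgebra.FreeModule.Finite.Matrix
import Mathlib.Algebra.Module.Torsion.Basic

/-!
# Saturated sublattices of positive definite lattices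
-/

namespace Groth.Agent.FComplLib

variable {L : Type} [AddCommGroup L] [Module.Finite ℤ L] [Module.Free ℤ L]

theorem exists_dual_extension (A : Submodule ℤ L)
    (htf : ∀ (c : ℤ) (x : L), c ≠ 0 → c • x ∈ A → x ∈ A) (ψ : Module.Dual ℤ A) :
    ∃ φ : Module.Dual ℤ L, φ ∘ₗ A.subtype = ψ := by
  have : Module.IsTorsionFree ℤ (L ⧸ A) := Module.IsTorsionFree.of_smul_eq_zero fun c m h => by
    obtain ⟨x, rfl⟩ := Submodule.mkQ_surjective _ m
    refine or_iff_not_imp_left.mpr fun hc => (Submodule.Quotient.mk_eq_zero _).mpr (htf c x hc ?_)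
    exact (Submodule.Quotient.mk_eq_zero _).mp h
  have : Module.Free ℤ (L ⧸ A) := Module.free_of_finite_type_torsion_free'
  obtain ⟨s, hs⟩ := Module.projective_lifting_property A.mkQ LinearMap.id A.mkQ_surjective
  let r : L →ₗ[ℤ] A := (LinearMap.id - s ∘ₗ A.mkQ).codRestrict A fun x => by
    rw [← Submodule.Quotient.mk_eq_zero]
    exact (map_sub A.mkQ x (s (A.mkQ x))).trans (by
      rw [show A.mkQ (s (A.mkQ x)) = A.mkQ x from LinearMap.congr_fun hs (A.mkQ x), sub_self])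
  refine ⟨ψ ∘ₗ r, LinearMap.ext fun a => congrArg ψ (Subtype.ext ?_)⟩
  show (a : L) - s (A.mkQ a) = a
  rw [show A.mkQ a = 0 from (Submodule.Quotient.mk_eq_zero _).mpr a.2, map_zero, sub_zero]

/-- An injective map between lattices of equal rank has finite index image. -/
theorem exists_smul_mem_range {M N : Type} [AddCommGroup M] [Module.Finite ℤ M] [Module.Free ℤ M]
    [AddCommGroup N] [Module.Finite ℤ N] [Module.Free ℤ N] (f : M →ₗ[ℤ] N)
    (hf : Function.Injective f) (h : Module.finrank ℤ M = Module.finrank ℤ N) (y : N) :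
    ∃ c : ℤ, c ≠ 0 ∧ c • y ∈ LinearMap.range f := by
  by_contra hy
  push Not at hy
  let g : (M × ℤ) →ₗ[ℤ] N := f.coprod (LinearMap.toSpanSingleton ℤ N y)
  have hg : Function.Injective g := by
    refine (injective_iff_map_eq_zero g).mpr fun ⟨m, c⟩ hz => ?_
    have hz' : f m + c • y = 0 := hz
    obtain rfl : c = 0 := by_contra fun hc => hy c hc ⟨-m, by
      rw [map_neg, neg_eq_iff_add_eq_zero]; exact hz'⟩
    rw [zero_smul, add_zero] at hz'
    exact Prod.ext (hf (hz'.trans (map_zero f).symm)) rfl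
  have := LinearMap.finrank_le_finrank_of_injective hg
  rw [Module.finrank_prod, Module.finrank_self] at this
  omega

variable (B : LinearMap.BilinForm ℤ L) (hpos : ∀ x, x ≠ 0 → 0 < B x x)

include hpos in
theorem exists_smul_mem_sup_orthogonal (hsymm : B.IsSymm) (A : Submodule ℤ L) (x : L) :
    ∃ c : ℤ, c ≠ 0 ∧ c • x ∈ A ⊔ B.orthogonal A := by
  let res : L →ₗ[ℤ] Module.Dual ℤ A := B.compl₂ A.subtype
  have hinj : Function.Injective (res ∘ₗ A.subtype) := (injective_iff_map_eq_zero _).mpr fun a ha => by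
    by_contra hne
    exact (hpos a.1 fun h => hne (Subtype.ext h)).ne' (LinearMap.congr_fun ha a)
  obtain ⟨c, hc, a, ha⟩ := exists_smul_mem_range (res ∘ₗ A.subtype) hinj
    (Module.finrank_linearMap_self ℤ ℤ A).symm (res x)
  refine ⟨c, hc, Submodule.mem_sup.mpr ⟨a, a.2, c • x - a, fun a' ha' => ?_, add_sub_cancel _ _⟩⟩
  show B a' (c • x - a) = 0
  rw [hsymm.eq a', map_sub, LinearMap.sub_apply, sub_eq_zero]
  rw [← map_smul] at ha
  exact (LinearMap.congr_fun ha ⟨a', ha'⟩).symm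

include hpos in
theorem orthogonal_orthogonal_eq (hsymm : B.IsSymm) (A : Submodule ℤ L)
    (htf : ∀ (c : ℤ) (x : L), c ≠ 0 → c • x ∈ A → x ∈ A) : B.orthogonal (B.orthogonal A) = A := by
  refine le_antisymm (fun x hx => ?_) fun a ha b hb => (hsymm.eq b a).trans (hb a ha)
  obtain ⟨c, hc, h⟩ := exists_smul_mem_sup_orthogonal B hpos hsymm A x
  obtain ⟨a, ha, b, hb, hab⟩ := Submodule.mem_sup.mp h
  refine htf c x hc ?_
  obtain rfl : b = 0 := by_contra fun hb0 => (hpos b hb0).ne' (by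
    have h1 : B b (c • x) = 0 := by rw [map_smul]; exact (congrArg (c • ·) (hx b hb)).trans (smul_zero c)
    rwa [← hab, map_add, hsymm.eq b a, show B a b = 0 from hb a ha, zero_add] at h1)
  rw [← hab, add_zero]; exact ha

end Groth.Agent.FComplLib

namespace Groth.Agent.FComplLib

theorem exists_torsion_coker_equiv {L₀ L₁ : Type} [AddCommGroup L₀] [AddCommGroup L₁]
    [Module.Finite ℤ L₁] [Module.Free ℤ L₁]
    (B₀ : LinearMap.BilinForm ℤ L₀) (B₁ : LinearMap.BilinForm ℤ L₁) (h₀s : B₀.IsSymm) (h₁s : B₁.IsSymm)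
    (h₁p : ∀ x, x ≠ 0 → 0 < B₁ x x) (huni : Function.Bijective B₀)
    (d : L₀ →ₗ[ℤ] L₁) (ds : L₁ →ₗ[ℤ] L₀) (hadj : ∀ x y, B₁ (d x) y = B₀ x (ds y)) :
    ∃ Φ : ↥(Submodule.torsion ℤ (L₀ ⧸ LinearMap.range (ds ∘ₗ d))) ≃ₗ[ℤ]
        (Module.Dual ℤ ↥(LinearMap.range d) ⧸
          LinearMap.range ((B₁.compl₂ (LinearMap.range d).subtype) ∘ₗ (LinearMap.range d).subtype)),
      ∀ (x : L₀) (hx : Submodule.Quotient.mk x ∈ Submodule.torsion ℤ (L₀ ⧸ LinearMap.range (ds ∘ₗ d)))
        (ψ : Module.Dual ℤ ↥(LinearMap.range d)),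
        (∀ y' : L₀, ψ ⟨d y', LinearMap.mem_range_self d y'⟩ = B₀ x y') →
          Φ ⟨Submodule.Quotient.mk x, hx⟩ = Submodule.Quotient.mk ψ := by
  let res := (B₁.compl₂ (LinearMap.range d).subtype) ∘ₗ (LinearMap.range d).subtype
  let e₀ := LinearEquiv.ofBijective B₀ huni
  let E : Module.Dual ℤ (LinearMap.range d) →ₗ[ℤ] L₀ := e₀.symm.toLinearMap ∘ₗ d.rangeRestrict.dualMap
  have hE : ∀ ψ y, B₀ (E ψ) y = ψ ⟨d y, LinearMap.mem_range_self d y⟩ := fun ψ y =>
    LinearMap.congr_fun (e₀.apply_symm_apply _) y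
  let G : Module.Dual ℤ (LinearMap.range d) →ₗ[ℤ]
      L₀ ⧸ LinearMap.range (ds ∘ₗ d) := (LinearMap.range (ds ∘ₗ d)).mkQ ∘ₗ E
  have hEres : ∀ z, E (res ⟨d z, LinearMap.mem_range_self d z⟩) = ds (d z) := fun z => huni.1 (by
    refine LinearMap.ext fun y => ?_
    rw [hE]
    show B₁ (d z) (d y) = B₀ (ds (d z)) y
    rw [h₀s.eq (ds (d z)) y, ← hadj, h₁s.eq (d z) (d y)])
  have hker : LinearMap.ker G = LinearMap.range res := by
    ext ψ
    refine ⟨fun h => ?_, fun h => ?_⟩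
    · obtain ⟨z, hz⟩ := (Submodule.Quotient.mk_eq_zero _).mp (LinearMap.mem_ker.mp h)
      refine ⟨⟨d z, LinearMap.mem_range_self d z⟩, LinearMap.ext ?_⟩
      rintro ⟨_, y, rfl⟩
      rw [← hE, ← hE, hEres]
      exact congrArg (fun t => B₀ t y) hz
    · obtain ⟨⟨_, z, rfl⟩, rfl⟩ := h
      exact (Submodule.Quotient.mk_eq_zero _).mpr ⟨z, (hEres z).symm⟩
  have : Module.Free ℤ (LinearMap.range d) := Module.free_of_finite_type_torsion_free'
  have hrange : LinearMap.range G = Submodule.torsion ℤ (L₀ ⧸ LinearMap.range (ds ∘ₗ d)) := by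
    refine le_antisymm ?_ fun q hq => ?_
    · rintro _ ⟨ψ, rfl⟩
      obtain ⟨c, hc, hmem⟩ := exists_smul_mem_range res ((injective_iff_map_eq_zero _).mpr fun a ha => by
        by_contra hne
        exact (h₁p a.1 fun h => hne (Subtype.ext h)).ne' (LinearMap.congr_fun ha a))
        (Module.finrank_linearMap_self ℤ ℤ (LinearMap.range d)).symm ψ
      rw [← hker, LinearMap.mem_ker, map_smul] at hmem
      exact (Submodule.mem_torsion_iff _).mpr ⟨⟨c, mem_nonZeroDivisors_of_ne_zero hc⟩, hmem⟩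
    · obtain ⟨x, rfl⟩ := Submodule.mkQ_surjective _ q
      obtain ⟨⟨c, hc⟩, h⟩ := (Submodule.mem_torsion_iff _).mp hq
      obtain ⟨z, hz⟩ := (Submodule.Quotient.mk_eq_zero _).mp ((Submodule.Quotient.mk_smul _ c x).trans h)
      have hle : LinearMap.ker d ≤ LinearMap.ker (B₀ x) := fun w hw => by
        have h1 : B₀ (c • x) w = 0 := by
          rw [← hz, h₀s.eq, LinearMap.comp_apply, ← hadj, LinearMap.mem_ker.mp hw]
          simp
        rw [map_smul, LinearMap.smul_apply] at h1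
        exact (mul_eq_zero.mp h1).resolve_left (nonZeroDivisors.ne_zero hc)
      refine ⟨(LinearMap.ker d).liftQ (B₀ x) hle ∘ₗ d.quotKerEquivRange.symm.toLinearMap, ?_⟩
      refine congrArg (Submodule.mkQ _) (huni.1 (LinearMap.ext fun y => ?_))
      rw [hE, LinearMap.comp_apply]
      show (LinearMap.ker d).liftQ (B₀ x) hle (d.quotKerEquivRange.symm _) = _
      rw [show d.quotKerEquivRange.symm ⟨d y, LinearMap.mem_range_self d y⟩ = Submodule.Quotient.mk y
        from d.quotKerEquivRange_symm_apply_image y _, Submodule.liftQ_apply]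
  let Ψ := ((Submodule.quotEquivOfEq _ _ hker.symm).trans G.quotKerEquivRange).trans
    (LinearEquiv.ofEq _ _ hrange)
  refine ⟨Ψ.symm, fun x hx ψ hψ => ?_⟩
  rw [LinearEquiv.symm_apply_eq]
  refine Subtype.ext (congrArg (Submodule.mkQ _) ?_)
  exact huni.1 (LinearMap.ext fun y => (hψ y).symm.trans (hE ψ y).symm)

end Groth.Agent.FComplLib
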