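import Groth.Agent.FComplLib.Sys
import Groth.Prelude.Def_FSch5
import Mathlib.AlgebraicGeometry.Noetherian

/-!
# Formal schemes induced on opens
-/

universe u

open CategoryTheory CategoryTheory.Limits AlgebraicGeometry

namespace Groth.Agent.FComplLib

theorem isPullback_resLE {X Y : Scheme.{u}} (f : X ⟶ Y) (U : Y.Opens) (V : X.Opens)
    (e : V ≤ f ⁻¹ᵁ U) (hV : V = f ⁻¹ᵁ U) : IsPullback (f.resLE U V e) V.ι U.ι f := by
  subst hV
  rw [Scheme.Hom.resLE_eq_morphismRestrict]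
  exact isPullback_morphismRestrict f U

open FSch

theorem isAdicHom_restrictOpenι (𝔛 : Sys.{u}) (h : 𝔛.IsFormal) (U : (𝔛.X 0).Opens) :
    IsAdicHom (𝔛.restrictOpenι h U) := fun n =>
  isPullback_resLE (𝔛.ι n) (𝔛.lvU h (n + 1) U) (𝔛.lvU h n U) (𝔛.lvU_le h n U)
    (𝔛.lvU_succ h n U).symm

theorem isLocallyNoetherian_restrictOpen_zero (𝔛 : Sys.{u}) (h : 𝔛.IsFormal) (U : (𝔛.X 0).Opens)
    (hN : IsLocallyNoetherian (𝔛.X 0)) : IsLocallyNoetherian ((𝔛.restrictOpen h U).X 0) := by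
  change IsLocallyNoetherian (𝔛.lvU h 0 U).toScheme
  exact isLocallyNoetherian_of_isOpenImmersion (𝔛.lvU h 0 U).ι

theorem compactSpace_restrictOpen_zero (𝔛 : Sys.{u}) (h : 𝔛.IsFormal) (U : (𝔛.X 0).Opens)
    (hN : IsLocallyNoetherian (𝔛.X 0)) (hc : CompactSpace (𝔛.X 0)) :
    CompactSpace ((𝔛.restrictOpen h U).X 0) := by
  have hX : IsNoetherian (𝔛.X 0) := { }
  change CompactSpace (𝔛.lvU h 0 U : Set (𝔛.X 0))
  exact isCompact_iff_compactSpace.mp (TopologicalSpace.NoetherianSpace.isCompact _)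

end Groth.Agent.FComplLib
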