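import Groth.Agent.FComplLib.Sys
import Groth.Agent.FComplLib.Thicken
import Mathlib.AlgebraicGeometry.Morphisms.SmoothFiber

/-!
# Smoothness of flat thickenings of smooth morphisms
-/

universe u

open CategoryTheory CategoryTheory.Limits AlgebraicGeometry

namespace Groth.Agent.FComplLib

theorem isIso_residueFieldMap {X Y : Scheme.{u}} (i : X ⟶ Y) [IsClosedImmersion i] (x : X) :
    IsIso (i.residueFieldMap x) := by
  rw [ConcreteCategory.isIso_iff_bijective]
  refine ⟨(i.residueFieldMap x).hom.injective, fun z => ?_⟩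
  obtain ⟨s, rfl⟩ := X.residue_surjective x z
  obtain ⟨t, rfl⟩ := i.stalkMap_surjective x s
  exact ⟨Y.residue (i x) t, (ConcreteCategory.congr_hom (Scheme.residue_residueFieldMap i x) t)⟩

theorem smooth_of_thickening {X₀ Y₀ X Y : Scheme.{u}} {iX : X₀ ⟶ X} {f₀ : X₀ ⟶ Y₀} {f : X ⟶ Y}
    {iY : Y₀ ⟶ Y} (sq : IsPullback iX f₀ f iY) [IsClosedImmersion iY] [Surjective iY]
    [Flat f] [LocallyOfFinitePresentation f] [AlgebraicGeometry.Smooth f₀] : AlgebraicGeometry.Smooth f := by
  refine Smooth.of_smooth_fiberToSpecResidueField f fun y => ?_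
  obtain ⟨y₀, rfl⟩ := iY.surjective y
  have := isIso_residueFieldMap iY y₀
  have hs : Spec.map (iY.residueFieldMap y₀) ≫ Y.fromSpecResidueField (iY y₀) =
      Y₀.fromSpecResidueField y₀ ≫ iY := iY.SpecMap_residueFieldMap_fromSpecResidueField y₀
  have h0 : IsPullback (f₀.fiberι y₀ ≫ iX) (f₀.fiberToSpecResidueField y₀) f
      (Y₀.fromSpecResidueField y₀ ≫ iY) := (IsPullback.of_hasPullback f₀ _).paste_horiz sq
  have h1 : IsPullback (f.fiberι (iY y₀)) (f.fiberToSpecResidueField (iY y₀) ≫
      inv (Spec.map (iY.residueFieldMap y₀))) f (Y₀.fromSpecResidueField y₀ ≫ iY) := by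
    rw [← hs]
    exact (IsPullback.of_hasPullback f _).of_iso (Iso.refl _) (Iso.refl _)
      (asIso (Spec.map (iY.residueFieldMap y₀))).symm (Iso.refl _) (by simp [Scheme.Hom.fiberι]; exact (Category.id_comp _).symm)
      (by simp [Scheme.Hom.fiberToSpecResidueField]; exact (Category.id_comp _).symm) (by simp) (by simp)
  have : AlgebraicGeometry.Smooth (f₀.fiberToSpecResidueField y₀) :=
    MorphismProperty.of_isPullback (P := @AlgebraicGeometry.Smooth) (IsPullback.of_hasPullback f₀ _) inferInstance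
  have h2 : AlgebraicGeometry.Smooth (f.fiberToSpecResidueField (iY y₀) ≫ inv (Spec.map (iY.residueFieldMap y₀))) := by
    rw [← h1.isoIsPullback_hom_snd _ _ h0]
    infer_instance
  exact (MorphismProperty.cancel_right_of_respectsIso (P := @AlgebraicGeometry.Smooth) _ _).mp h2

end Groth.Agent.FComplLib
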