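import Groth.Agent.FComplLib.Spf
import Mathlib.RingTheory.AdicCompletion.RingHom
import Mathlib.RingTheory.Nakayama
import Mathlib.AlgebraicGeometry.GammaSpecAdjunction

/-!
# Morphisms between formal spectra
-/

universe u

open CategoryTheory CategoryTheory.Limits AlgebraicGeometry

namespace Groth.Agent.FComplLib

open FSch

variable {A B : Type u} [CommRing A] [CommRing B] (I : Ideal A) (K : Ideal B)

theorem spfMap_injective [IsAdicComplete I A] (φ ψ : B →+* A) (hφ : K ≤ I.comap φ)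
    (hψ : K ≤ I.comap ψ) (h : spfMap I K φ hφ = spfMap I K ψ hψ) : φ = ψ := by
  have key : ∀ (n : ℕ) (b : B),
      Ideal.Quotient.mk (I ^ (n + 1)) (φ b) = Ideal.Quotient.mk (I ^ (n + 1)) (ψ b) := by
    intro n b
    have h1 : (spfMap I K φ hφ : Hom _ _).app n = (spfMap I K ψ hψ : Hom _ _).app n := by rw [h]
    rw [spfMap_app, spfMap_app] at h1
    have h2 : quotPowMap I K φ hφ n = quotPowMap I K ψ hψ n :=
      congrArg CommRingCat.Hom.hom (Spec.map_injective h1)
    exact RingHom.congr_fun h2 (Ideal.Quotient.mk _ b)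
  refine RingHom.ext fun b => sub_eq_zero.mp (IsHausdorff.haus ‹IsAdicComplete I A›.1 _ fun n => ?_)
  rw [SModEq.zero, smul_eq_mul, Ideal.mul_top]
  exact Ideal.pow_le_pow_right (Nat.le_succ n) (Ideal.Quotient.eq.mp (key n b))

theorem spfMap_surjective [IsAdicComplete I A] (f : spf A I ⟶ spf B K) :
    ∃ (φ : B →+* A) (h : K ≤ I.comap φ), spfMap I K φ h = f := by
  let f' : ∀ n, Spec (CommRingCat.of (A ⧸ I ^ (n + 1))) ⟶ Spec (CommRingCat.of (B ⧸ K ^ (n + 1))) :=
    fun n => (f : Hom _ _).app n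
  let ψ : ∀ n, B ⧸ K ^ (n + 1) →+* A ⧸ I ^ (n + 1) := fun n => (Spec.preimage (f' n)).hom
  have hψf : ∀ n, Spec.map (CommRingCat.ofHom (ψ n)) = f' n := fun n => by
    simp only [ψ, CommRingCat.ofHom_hom, Spec.map_preimage]
  have hψ : ∀ n, (ψ n).comp (Ideal.Quotient.factor (Ideal.pow_le_pow_right (Nat.le_succ (n + 1)))) =
      (Ideal.Quotient.factor (Ideal.pow_le_pow_right (Nat.le_succ (n + 1)))).comp (ψ (n + 1)) := by
    intro n
    have h : f' n ≫ CohB1.specQuotTrans K n = CohB1.specQuotTrans I n ≫ f' (n + 1) :=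
      (f : Hom _ _).comm n
    rw [← hψf n, ← hψf (n + 1), CohB1.specQuotTrans, CohB1.specQuotTrans, ← Spec.map_comp,
      ← Spec.map_comp] at h
    exact congrArg CommRingCat.Hom.hom (Spec.map_injective h)
  let g : ∀ n, B →+* A ⧸ I ^ (n + 1) := fun n => (ψ n).comp (Ideal.Quotient.mk _)
  have hg : ∀ {m n : ℕ} (h : m ≤ n),
      (Ideal.Quotient.factor (Ideal.pow_le_pow_right (Nat.succ_le_succ h))).comp (g n) = g m := by
    intro m n h
    induction n, h using Nat.le_induction with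
    | base => rw [Ideal.Quotient.factor_eq, RingHom.id_comp]
    | succ n hmn ih =>
      refine RingHom.ext fun b => ?_
      have hstep : Ideal.Quotient.factor (Ideal.pow_le_pow_right (Nat.le_succ (n + 1)))
          (g (n + 1) b) = g n b := (RingHom.congr_fun (hψ n) (Ideal.Quotient.mk _ b)).symm
      rw [← ih]
      change _ = Ideal.Quotient.factor (Ideal.pow_le_pow_right (Nat.succ_le_succ hmn)) (g n b)
      rw [← hstep, Ideal.Quotient.factor_comp_apply]
      rfl
  let fl : ∀ n, B →+* A ⧸ I ^ n := fun n =>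
    (Ideal.Quotient.factor (Ideal.pow_le_pow_right (Nat.le_succ n))).comp (g n)
  have hfl : ∀ {m n : ℕ} (hle : m ≤ n),
      (Ideal.Quotient.factorPow I hle).comp (fl n) = fl m := by
    intro m n h
    simp only [fl, ← hg h, Ideal.Quotient.factorPow, ← RingHom.comp_assoc,
      Ideal.Quotient.factor_comp]
  set φ := IsAdicComplete.liftRingHom I fl hfl
  have hφ : ∀ n b, Ideal.Quotient.mk (I ^ (n + 1)) (φ b) = ψ n (Ideal.Quotient.mk _ b) := by
    intro n b
    rw [IsAdicComplete.mk_liftRingHom]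
    exact RingHom.congr_fun (hg (Nat.le_succ n)) b
  have hle : K ≤ I.comap φ := by
    intro b hb
    have h0 := hφ 0 b
    rw [Ideal.Quotient.eq_zero_iff_mem.mpr (show b ∈ K ^ (0 + 1) by rwa [zero_add, pow_one]),
      map_zero, Ideal.Quotient.eq_zero_iff_mem, zero_add, pow_one] at h0
    exact h0
  refine ⟨φ, hle, Hom.ext (funext fun n => ?_)⟩
  rw [spfMap_app]
  refine Eq.trans ?_ (hψf n)
  congr 2
  exact Ideal.Quotient.ringHom_ext (RingHom.ext fun b => hφ n b)

theorem isAdicHom_spfMap_iff [IsNoetherianRing A] [IsAdicComplete I A] (φ : B →+* A)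
    (h : K ≤ I.comap φ) : IsAdicHom (spfMap I K φ h) ↔ K.map φ = I := by
  have hmap : K.map φ ≤ I := Ideal.map_le_iff_le_comap.mpr h
  let fA : ∀ n, A ⧸ I ^ (n + 2) →+* A ⧸ I ^ (n + 1) := fun n =>
    Ideal.Quotient.factor (Ideal.pow_le_pow_right (Nat.le_succ (n + 1)))
  let fB : ∀ n, B ⧸ K ^ (n + 2) →+* B ⧸ K ^ (n + 1) := fun n =>
    Ideal.Quotient.factor (Ideal.pow_le_pow_right (Nat.le_succ (n + 1)))
  have hclA : ∀ n, IsClosedImmersion (Spec.map (CommRingCat.ofHom (fA n))) := fun n =>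
    IsClosedImmersion.spec_of_surjective _ (Ideal.Quotient.factor_surjective
      (Ideal.pow_le_pow_right (Nat.le_succ (n + 1)) : I ^ (n + 2) ≤ I ^ (n + 1)))
  have hclB : ∀ n, IsClosedImmersion (Spec.map (CommRingCat.ofHom (fB n))) := fun n =>
    IsClosedImmersion.spec_of_surjective _ (Ideal.Quotient.factor_surjective
      (Ideal.pow_le_pow_right (Nat.le_succ (n + 1)) : K ^ (n + 2) ≤ K ^ (n + 1)))
  have hcomap : ∀ n, ((Spec.map (CommRingCat.ofHom (fB n))).ker.comap
      (Spec.map (CommRingCat.ofHom (quotPowMap I K φ h (n + 1))))).ideal ⟨⊤, isAffineOpen_top _⟩ =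
      (((K ^ (n + 1)).map φ).map (Ideal.Quotient.mk (I ^ (n + 2)))).map
        (Scheme.ΓSpecIso (CommRingCat.of (A ⧸ I ^ (n + 2)))).inv.hom := by
    intro n
    have e := congrArg CommRingCat.Hom.hom
      (Scheme.ΓSpecIso_inv_naturality (CommRingCat.ofHom (quotPowMap I K φ h (n + 1))))
    simp only [CommRingCat.hom_comp, CommRingCat.hom_ofHom] at e
    rw [ModPairLib.comap_ideal_affine, ker_specMap_ideal _ (Ideal.Quotient.factor_surjective
        (Ideal.pow_le_pow_right (Nat.le_succ (n + 1)) : K ^ (n + 2) ≤ K ^ (n + 1))),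
      Ideal.map_map, ← e,
      Ideal.Quotient.factor_ker (Ideal.pow_le_pow_right (Nat.le_succ (n + 1))),
      Ideal.map_map, Ideal.map_map, Ideal.map_map]
    rfl
  have hkerA : ∀ n, (Spec.map (CommRingCat.ofHom (fA n))).ker.ideal ⟨⊤, isAffineOpen_top _⟩ =
      ((I ^ (n + 1)).map (Ideal.Quotient.mk (I ^ (n + 2)))).map
        (Scheme.ΓSpecIso (CommRingCat.of (A ⧸ I ^ (n + 2)))).inv.hom := fun n => by
    rw [ker_specMap_ideal _ (Ideal.Quotient.factor_surjective
        (Ideal.pow_le_pow_right (Nat.le_succ (n + 1)) : I ^ (n + 2) ≤ I ^ (n + 1))),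
      Ideal.Quotient.factor_ker (Ideal.pow_le_pow_right (Nat.le_succ (n + 1)))]
  constructor
  · intro hf
    have hk : (Spec.map (CommRingCat.ofHom (fA 0))).ker = _ :=
      @ker_of_isPullback _ _ _ _ (Spec.map (CommRingCat.ofHom (fA 0)))
        ((spfMap I K φ h : Hom _ _).app 0) (Spec.map (CommRingCat.ofHom (quotPowMap I K φ h 1)))
        (Spec.map (CommRingCat.ofHom (fB 0))) (hf 0) (hclB 0)
    have h1 := congrArg (fun J => J.ideal ⟨⊤, isAffineOpen_top _⟩) hk
    simp only at h1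
    replace h1 := ((hkerA 0).symm.trans h1).trans (hcomap 0)
    have hb := (Scheme.ΓSpecIso (CommRingCat.of (A ⧸ I ^ (0 + 2)))).symm.commRingCatIsoToRingEquiv
    have h2 := congrArg (Ideal.comap (Scheme.ΓSpecIso (CommRingCat.of (A ⧸ I ^ (0 + 2)))).inv.hom) h1
    have hbij := ConcreteCategory.bijective_of_isIso
      (Scheme.ΓSpecIso (CommRingCat.of (A ⧸ I ^ (0 + 2)))).inv
    rw [Ideal.comap_map_of_bijective _ hbij, Ideal.comap_map_of_bijective _ hbij] at h2
    have h3 := congrArg (Ideal.comap (Ideal.Quotient.mk (I ^ (0 + 2)))) h2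
    rw [Ideal.comap_map_of_surjective' _ Ideal.Quotient.mk_surjective,
      Ideal.comap_map_of_surjective' _ Ideal.Quotient.mk_surjective, Ideal.mk_ker] at h3
    simp only [zero_add, pow_one] at h3
    refine le_antisymm hmap (Submodule.le_of_le_smul_of_le_jacobson_bot
      (IsNoetherian.noetherian I) (IsAdicComplete.le_jacobson_bot I) ?_)
    rw [smul_eq_mul, ← pow_two]
    exact le_sup_left.trans h3.le
  · intro hI n
    refine @isPullback_of_isClosedImmersion _ _ _ _ (Spec.map (CommRingCat.ofHom (fA n)))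
      (Spec.map (CommRingCat.ofHom (fB n))) ((spfMap I K φ h : Hom _ _).app n)
      (Spec.map (CommRingCat.ofHom (quotPowMap I K φ h (n + 1)))) (hclA n) (hclB n)
      ((spfMap I K φ h : Hom _ _).comm n).symm ?_
    refine Scheme.IdealSheafData.ext_of_isAffine ?_
    rw [hcomap n, hkerA n, Ideal.map_pow φ K, hI]

end Groth.Agent.FComplLib
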