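import Groth.Agent.FComplLib.StalkRing
import Groth.Agent.LocalCrit.Completion
import Mathlib.RingTheory.Flat.EquationalCriterion
import Mathlib.RingTheory.Flat.Stability
import Mathlib.RingTheory.RingHom.Flat
import Mathlib.Tactic.Algebraize
import Mathlib.RingTheory.Flat.FaithfullyFlat.Algebra
import Mathlib.RingTheory.Localization.Ideal

/-!
# Faithful flatness of the completed local ring over the stalk ring
-/

universe u

namespace Groth.Agent.FComplLib

open AdicCompletion (evalₐ)
open FSch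

variable (A : Type u) [CommRing A] [IsNoetherianRing A] (J : Ideal A) (𝔭 : Ideal A) [𝔭.IsPrime]

theorem map_map_map_eq (f : A) (hf : f ∉ 𝔭) :
    ((J.map (algebraMap A (Localization.Away f))).map (algebraMap _ (cAway A J f))).map
        (cAwayToAtPrime A J 𝔭 f hf) =
      (J.map (algebraMap A (Localization.AtPrime 𝔭))).map (algebraMap _ (cAtPrime A J 𝔭)) := by
  rw [Ideal.map_map, Ideal.map_map, Ideal.map_map]
  congr 1
  refine RingHom.ext fun a => ?_
  simp only [RingHom.comp_apply, cAwayToAtPrime_algebraMap, awayToAtPrime_algebraMap]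

theorem flat_cAwayToAtPrime (f : A) (hf : f ∉ 𝔭) : (cAwayToAtPrime A J 𝔭 f hf).Flat := by
  algebraize [cAwayToAtPrime A J 𝔭 f hf]
  set Af := Localization.Away f
  set Ap := Localization.AtPrime 𝔭
  set R := cAtPrime A J 𝔭
  set B := cAway A J f
  set φ := cAwayToAtPrime A J 𝔭 f hf
  have : IsNoetherianRing Af := IsLocalization.isNoetherianRing (Submonoid.powers f) Af inferInstance
  have : IsNoetherianRing Ap := IsLocalization.isNoetherianRing 𝔭.primeCompl Ap inferInstance
  have : IsNoetherianRing B := isNoetherianRing_adicCompletion _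
  have : IsNoetherianRing R := isNoetherianRing_adicCompletion _
  let ι : A →+* B := (algebraMap Af B).comp (algebraMap A Af)
  set JA := J.map (algebraMap A Ap)
  set KB : Ideal B := (J.map (algebraMap A Af)).map (algebraMap Af B)
  have hK : KB.map φ = JA.map (algebraMap Ap R) := map_map_map_eq A J 𝔭 f hf
  have hι : ∀ a, φ (ι a) = algebraMap Ap R (algebraMap A Ap a) := fun a =>
    (cAwayToAtPrime_algebraMap A J 𝔭 f hf (algebraMap A Af a)).trans
      (congrArg (algebraMap Ap R) (awayToAtPrime_algebraMap A 𝔭 f hf a))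
  have hjac : KB.map (algebraMap B R) ≤ Ideal.jacobson ⊥ := by
    rw [RingHom.algebraMap_toAlgebra, hK]
    have : IsAdicComplete (JA.map (algebraMap Ap R)) R :=
      AdicCompletion.isAdicComplete_self _ (IsNoetherian.noetherian JA)
    exact IsAdicComplete.le_jacobson_bot _
  refine LocalCrit.flat_of_forall_quotient_pow (R := B) (B := R) (M := R) KB hjac fun n => ?_
  let S : Submonoid B := 𝔭.primeCompl.map ι
  have hS : ∀ s : S, IsUnit (algebraMap B R s) := by
    rintro ⟨_, t, ht, rfl⟩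
    change IsUnit (φ (ι t))
    rw [hι]
    exact (IsLocalization.map_units Ap (⟨t, ht⟩ : 𝔭.primeCompl)).map _
  let C := Localization S
  have : Module.Flat B C := IsLocalization.flat C S
  let α : C →ₐ[B] R :=
    { IsLocalization.lift hS with commutes' := fun b => IsLocalization.lift_eq hS b }
  have hpow : (KB ^ n).map (algebraMap B R) = (JA ^ n).map (algebraMap Ap R) := by
    rw [Ideal.map_pow, Ideal.map_pow, RingHom.algebraMap_toAlgebra, hK]
  refine LocalCrit.keepsInjective_of_bijective_mod (KB ^ n) α (fun x => ?_) fun c hc => ?_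
  · obtain ⟨z, hz⟩ := Ideal.Quotient.mk_surjective (evalₐ JA n x)
    obtain ⟨⟨a, s⟩, hs⟩ := IsLocalization.surj 𝔭.primeCompl z
    refine ⟨IsLocalization.mk' C (ι a) ⟨ι s, Submonoid.mem_map_of_mem ι s.2⟩, ?_⟩
    have hα : α (IsLocalization.mk' C (ι a) ⟨ι s, Submonoid.mem_map_of_mem ι s.2⟩) =
        algebraMap Ap R z := by
      change IsLocalization.lift hS _ = _
      rw [IsLocalization.lift_mk'_spec]
      change φ (ι a) = φ (ι s) * _
      rw [hι, hι, ← map_mul, mul_comm, hs]
    rw [hpow, hα, ← evalₐ_eq_zero_iff JA (IsNoetherian.noetherian _), map_sub,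
      evalₐ_algebraMap, hz, sub_self]
  · obtain ⟨⟨b, s⟩, rfl⟩ := IsLocalization.mk'_surjective (M := S) c
    rw [IsLocalization.mk'_mem_map_algebraMap_iff S]
    have hb : φ b ∈ (JA ^ n).map (algebraMap Ap R) := by
      rw [hpow] at hc
      have e : algebraMap B R s * α (IsLocalization.mk' C b s) = algebraMap B R b := by
        rw [← α.commutes, ← map_mul, IsLocalization.mk'_spec', α.commutes]
      change algebraMap B R b ∈ _
      exact e ▸ Ideal.mul_mem_left _ _ hc
    rw [← evalₐ_eq_zero_iff JA (IsNoetherian.noetherian _)] at hb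
    obtain ⟨y, hy⟩ := Ideal.Quotient.mk_surjective (evalₐ (J.map (algebraMap A Af)) n b)
    obtain ⟨k, a, ha⟩ := IsLocalization.Away.surj f y
    have hy0 : awayToAtPrime A 𝔭 f hf y ∈ JA ^ n := by
      have h1 : evalₐ JA n (φ b) = Ideal.quotientMap _ (awayToAtPrime A 𝔭 f hf) _ _ :=
        evalₐ_complMap _ _ _ (map_awayToAtPrime_le A J 𝔭 f hf) n b
      rw [hb, ← hy, Ideal.quotientMap_mk] at h1
      exact Ideal.Quotient.eq_zero_iff_mem.mp h1.symm
    have ha0 : algebraMap A Ap a ∈ (J ^ n).map (algebraMap A Ap) := by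
      rw [Ideal.map_pow, ← awayToAtPrime_algebraMap A 𝔭 f hf a, ← ha, map_mul]
      exact Ideal.mul_mem_right _ _ hy0
    obtain ⟨t, ht, hta⟩ := (IsLocalization.algebraMap_mem_map_algebraMap_iff 𝔭.primeCompl Ap _ a).mp ha0
    refine ⟨_, Submonoid.mem_map_of_mem ι (mul_mem ht (pow_mem (show f ∈ 𝔭.primeCompl from hf) k)), ?_⟩
    have h2 : (KB ^ n) = (J.map (algebraMap A Af) ^ n).map (algebraMap Af B) :=
      (Ideal.map_pow _ _ _).symm
    rw [h2, ← evalₐ_eq_zero_iff _ (IsNoetherian.noetherian _), map_mul, ← hy, RingHom.comp_apply,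
      evalₐ_algebraMap, ← map_mul, Ideal.Quotient.eq_zero_iff_mem, map_mul, map_pow, mul_assoc,
      mul_comm _ y, ha, ← map_mul, ← Ideal.map_pow]
    exact Ideal.mem_map_of_mem _ hta

theorem flat_stalkSubring : Module.Flat (stalkSubring A J 𝔭) (cAtPrime A J 𝔭) := by
  classical
  refine Module.Flat.iff_forall_isTrivialRelation.mpr fun {l f x} h => ?_
  have hex : ∀ s : Finset (Fin l), ∃ (g : A) (hg : g ∉ 𝔭),
      ∀ i ∈ s, (f i : cAtPrime A J 𝔭) ∈ (cAwayToAtPrime A J 𝔭 g hg).range := by
    intro s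
    induction s using Finset.induction_on with
    | empty => exact ⟨1, fun h => (‹𝔭.IsPrime›).ne_top ((Ideal.eq_top_iff_one 𝔭).mpr h), by simp⟩
    | insert i s _ ih =>
      obtain ⟨g, hg, hs⟩ := ih
      obtain ⟨g', hg', hi⟩ := (mem_stalkSubring A J 𝔭).mp (f i).2
      obtain ⟨⟨k, hk⟩, h1, h2⟩ := directed_range A J 𝔭 ⟨g, hg⟩ ⟨g', hg'⟩
      refine ⟨k, hk, fun j hj => ?_⟩
      rcases Finset.mem_insert.mp hj with rfl | hj
      · exact h2 hi
      · exact h1 (hs j hj)
  obtain ⟨g, hg, hs⟩ := hex Finset.univ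
  choose b hb using fun i => hs i (Finset.mem_univ i)
  set φ := cAwayToAtPrime A J 𝔭 g hg
  have hflat := flat_cAwayToAtPrime A J 𝔭 g hg
  letI : Algebra (cAway A J g) (cAtPrime A J 𝔭) := φ.toAlgebra
  have : Module.Flat (cAway A J g) (cAtPrime A J 𝔭) := hflat
  have hrel : ∑ i, b i • x i = 0 := by
    rw [← h]
    refine Finset.sum_congr rfl fun i _ => ?_
    rw [Algebra.smul_def, Subring.smul_def, smul_eq_mul]
    exact congrArg (· * x i) (hb i)
  obtain ⟨k, a, y, hxy, hba⟩ := Module.Flat.isTrivialRelation_of_sum_smul_eq_zero hrel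
  refine ⟨k, fun i j => ⟨φ (a i j), cAwayToAtPrime_mem A J 𝔭 g hg _⟩, y, fun i => ?_, fun j => ?_⟩
  · rw [hxy i]
    exact Finset.sum_congr rfl fun j _ => by rw [Algebra.smul_def, Subring.smul_def, smul_eq_mul]; rfl
  · refine Subtype.ext ?_
    have := congrArg φ (hba j)
    rw [map_sum, map_zero] at this
    push_cast
    rw [← this]
    exact Finset.sum_congr rfl fun i _ => by rw [map_mul, hb]

theorem faithfullyFlat_stalkSubring (hJ : J ≤ 𝔭) :
    Module.FaithfullyFlat (stalkSubring A J 𝔭) (cAtPrime A J 𝔭) := by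
  have := isLocalRing_stalkSubring A J 𝔭 hJ
  have := isLocalRing_cAtPrime A J 𝔭 hJ
  have : IsLocalHom (algebraMap (stalkSubring A J 𝔭) (cAtPrime A J 𝔭)) :=
    isLocalHom_subtype A J 𝔭 hJ
  have := flat_stalkSubring A J 𝔭
  exact Module.FaithfullyFlat.of_flat_of_isLocalHom

end Groth.Agent.FComplLib
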