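import Groth.Agent.FComplLib.AdicUnit
import Mathlib.RingTheory.LocalRing.ResidueField.Basic

/-!
# The stalk ring of a formal spectrum inside the completed local ring
-/

universe u

namespace Groth.Agent.FComplLib

open AdicCompletion FSch

variable (A : Type u) [CommRing A] (J : Ideal A) (𝔭 : Ideal A) [𝔭.IsPrime]

theorem awayToAtPrime_algebraMap (f : A) (hf : f ∉ 𝔭) (a : A) :
    awayToAtPrime A 𝔭 f hf (algebraMap A (Localization.Away f) a) =
      algebraMap A (Localization.AtPrime 𝔭) a := by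
  simp [awayToAtPrime]

theorem isUnit_algebraMap_away_mul_left (f g : A) :
    IsUnit (algebraMap A (Localization.Away (f * g)) f) := by
  have h := IsLocalization.Away.algebraMap_isUnit (S := Localization.Away (f * g)) (f * g)
  rw [map_mul] at h
  exact isUnit_of_mul_isUnit_left h

theorem isUnit_algebraMap_away_mul_right (f g : A) :
    IsUnit (algebraMap A (Localization.Away (f * g)) g) := by
  have h := IsLocalization.Away.algebraMap_isUnit (S := Localization.Away (f * g)) (f * g)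
  rw [map_mul] at h
  exact isUnit_of_mul_isUnit_right h

/-- The map `A_f → A_k` when `f` is invertible in `A_k`. -/
noncomputable def awayMap (f k : A) (hu : IsUnit (algebraMap A (Localization.Away k) f)) :
    Localization.Away f →+* Localization.Away k :=
  IsLocalization.Away.lift f hu

theorem awayMap_algebraMap (f k : A) (hu : IsUnit (algebraMap A (Localization.Away k) f)) (a : A) :
    awayMap A f k hu (algebraMap A (Localization.Away f) a) =
      algebraMap A (Localization.Away k) a :=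
  IsLocalization.Away.lift_eq f hu a

theorem map_awayMap_le (f k : A) (hu : IsUnit (algebraMap A (Localization.Away k) f)) :
    (J.map (algebraMap A (Localization.Away f))).map (awayMap A f k hu) ≤
      J.map (algebraMap A (Localization.Away k)) := by
  rw [Ideal.map_map,
    show (awayMap A f k hu).comp (algebraMap A (Localization.Away f)) =
      algebraMap A (Localization.Away k) from RingHom.ext (awayMap_algebraMap A f k hu)]

/-- Transition map between completed localisations. -/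
noncomputable def cAwayMap (f k : A) (hu : IsUnit (algebraMap A (Localization.Away k) f)) :
    cAway A J f →+* cAway A J k :=
  complMap _ _ (awayMap A f k hu) (map_awayMap_le A J f k hu)

theorem comp_cAwayMap (f k : A) (hf : f ∉ 𝔭) (hk : k ∉ 𝔭)
    (hu : IsUnit (algebraMap A (Localization.Away k) f)) :
    (cAwayToAtPrime A J 𝔭 k hk).comp (cAwayMap A J f k hu) = cAwayToAtPrime A J 𝔭 f hf := by
  have h : (awayToAtPrime A 𝔭 k hk).comp (awayMap A f k hu) = awayToAtPrime A 𝔭 f hf :=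
    IsLocalization.ringHom_ext (Submonoid.powers f) (RingHom.ext fun a => by
      rw [RingHom.comp_apply, RingHom.comp_apply, RingHom.comp_apply, awayMap_algebraMap,
        awayToAtPrime_algebraMap, awayToAtPrime_algebraMap])
  exact complMap_comp _ _ _ _ _ _ h (map_awayMap_le A J f k hu) _ _

theorem directed_range :
    Directed (· ≤ ·) fun f : {f : A // f ∉ 𝔭} => (cAwayToAtPrime A J 𝔭 f.1 f.2).range := by
  rintro ⟨f, hf⟩ ⟨g, hg⟩
  have hfg : f * g ∉ 𝔭 := fun h => ((‹𝔭.IsPrime›).mem_or_mem h).elim hf hg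
  refine ⟨⟨f * g, hfg⟩, ?_, ?_⟩
  · rintro _ ⟨x, rfl⟩
    exact ⟨_, RingHom.congr_fun
      (comp_cAwayMap A J 𝔭 f _ hf hfg (isUnit_algebraMap_away_mul_left A f g)) x⟩
  · rintro _ ⟨x, rfl⟩
    exact ⟨_, RingHom.congr_fun
      (comp_cAwayMap A J 𝔭 g _ hg hfg (isUnit_algebraMap_away_mul_right A f g)) x⟩

theorem mem_stalkSubring {x : cAtPrime A J 𝔭} :
    x ∈ stalkSubring A J 𝔭 ↔ ∃ (f : A) (hf : f ∉ 𝔭), x ∈ (cAwayToAtPrime A J 𝔭 f hf).range := by
  have : Nonempty {f : A // f ∉ 𝔭} :=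
    ⟨⟨1, fun h => (‹𝔭.IsPrime›).ne_top ((Ideal.eq_top_iff_one 𝔭).mpr h)⟩⟩
  rw [stalkSubring, Subring.mem_iSup_of_directed (directed_range A J 𝔭)]
  exact ⟨fun ⟨⟨f, hf⟩, h⟩ => ⟨f, hf, h⟩, fun ⟨f, hf, h⟩ => ⟨⟨f, hf⟩, h⟩⟩

theorem cAwayToAtPrime_mem (f : A) (hf : f ∉ 𝔭) (y : cAway A J f) :
    cAwayToAtPrime A J 𝔭 f hf y ∈ stalkSubring A J 𝔭 :=
  (mem_stalkSubring A J 𝔭).mpr ⟨f, hf, y, rfl⟩

theorem cAwayToAtPrime_algebraMap (f : A) (hf : f ∉ 𝔭) (x : Localization.Away f) :
    cAwayToAtPrime A J 𝔭 f hf (algebraMap _ (cAway A J f) x) =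
      algebraMap _ (cAtPrime A J 𝔭) (awayToAtPrime A 𝔭 f hf x) :=
  complMap_algebraMap _ _ _ _ _

/-- Every element of `A_𝔭` lies in the stalk ring. -/
theorem algebraMap_mem (z : Localization.AtPrime 𝔭) :
    algebraMap _ (cAtPrime A J 𝔭) z ∈ stalkSubring A J 𝔭 := by
  obtain ⟨⟨a, s⟩, hs⟩ := IsLocalization.surj 𝔭.primeCompl z
  have hs' : (s : A) ∉ 𝔭 := s.2
  have hu : IsUnit (algebraMap A (Localization.Away (s : A)) s) :=
    IsLocalization.Away.algebraMap_isUnit (s : A)
  obtain ⟨v, hv⟩ := hu.exists_right_inv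
  have : z = awayToAtPrime A 𝔭 s hs' (algebraMap A _ a * v) := by
    refine (IsLocalization.map_units (Localization.AtPrime 𝔭) s).mul_left_injective ?_
    change z * algebraMap A _ (s : A) = awayToAtPrime A 𝔭 s hs' _ * algebraMap A _ (s : A)
    rw [hs, ← awayToAtPrime_algebraMap A 𝔭 s hs' (s : A), ← map_mul, mul_assoc, mul_comm v, hv,
      mul_one, awayToAtPrime_algebraMap]
  rw [this, ← cAwayToAtPrime_algebraMap]
  exact cAwayToAtPrime_mem A J 𝔭 _ _ _

variable (hJ : J ≤ 𝔭)

include hJ in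
theorem map_le_maximalIdeal :
    J.map (algebraMap A (Localization.AtPrime 𝔭)) ≤
      IsLocalRing.maximalIdeal (Localization.AtPrime 𝔭) := by
  rw [← Localization.AtPrime.map_eq_maximalIdeal]
  exact Ideal.map_mono hJ

/-- The residue map of the completed local ring. -/
noncomputable def chi : cAtPrime A J 𝔭 →+* IsLocalRing.ResidueField (Localization.AtPrime 𝔭) :=
  (Ideal.Quotient.lift _ (IsLocalRing.residue (Localization.AtPrime 𝔭)) fun a ha =>
    (IsLocalRing.residue_eq_zero_iff a).mpr (map_le_maximalIdeal A J 𝔭 hJ (by rwa [pow_one] at ha))).comp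
    (evalₐ (J.map (algebraMap A (Localization.AtPrime 𝔭))) 1).toRingHom

theorem chi_algebraMap (z : Localization.AtPrime 𝔭) :
    chi A J 𝔭 hJ (algebraMap _ _ z) = IsLocalRing.residue _ z := by
  simp only [chi, RingHom.coe_comp, Function.comp_apply, AlgHom.toRingHom_eq_coe,
    AlgHom.coe_toRingHom, evalₐ_algebraMap, Ideal.Quotient.lift_mk]

theorem isUnit_iff_chi_ne_zero (x : cAtPrime A J 𝔭) : IsUnit x ↔ chi A J 𝔭 hJ x ≠ 0 := by
  refine ⟨fun h => (h.map _).ne_zero, fun h => isUnit_of_isUnit_evalₐ_one _ x ?_⟩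
  obtain ⟨z, hz⟩ := Ideal.Quotient.mk_surjective
    (evalₐ (J.map (algebraMap A (Localization.AtPrime 𝔭))) 1 x)
  rw [← hz]
  refine IsUnit.map _ ?_
  simp only [chi, RingHom.coe_comp, Function.comp_apply, AlgHom.toRingHom_eq_coe,
    AlgHom.coe_toRingHom, ← hz, Ideal.Quotient.lift_mk] at h
  by_contra hn
  exact h ((IsLocalRing.residue_eq_zero_iff z).mpr hn)

include hJ in
theorem isLocalRing_cAtPrime : IsLocalRing (cAtPrime A J 𝔭) := by
  have : Nontrivial (cAtPrime A J 𝔭) := (chi A J 𝔭 hJ).domain_nontrivial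
  refine IsLocalRing.of_nonunits_add fun a b ha hb => ?_
  simp only [mem_nonunits_iff, isUnit_iff_chi_ne_zero A J 𝔭 hJ, not_not] at ha hb ⊢
  rw [map_add, ha, hb, add_zero]

include hJ in
theorem isLocalHom_algebraMap :
    IsLocalHom (algebraMap (Localization.AtPrime 𝔭) (cAtPrime A J 𝔭)) :=
  ⟨fun z hz => by
    rw [isUnit_iff_chi_ne_zero A J 𝔭 hJ, chi_algebraMap] at hz
    by_contra hn
    exact hz ((IsLocalRing.residue_eq_zero_iff z).mpr hn)⟩

theorem isUnit_stalk_of_chi_ne_zero (x : stalkSubring A J 𝔭) (h : chi A J 𝔭 hJ x ≠ 0) :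
    IsUnit x := by
  obtain ⟨f, hf, y, hy⟩ := (mem_stalkSubring A J 𝔭).mp x.2
  obtain ⟨z, hz⟩ := Ideal.Quotient.mk_surjective
    (evalₐ (J.map (algebraMap A (Localization.Away f))) 1 y)
  obtain ⟨n, a, ha⟩ := IsLocalization.Away.surj f z
  have hev : evalₐ (J.map (algebraMap A (Localization.AtPrime 𝔭))) 1 x.1 =
      Ideal.Quotient.mk _ (awayToAtPrime A 𝔭 f hf z) := by
    rw [← hy, cAwayToAtPrime, evalₐ_complMap, ← hz, Ideal.quotientMap_mk]
  have ha' : a ∉ 𝔭 := by
    intro hmem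
    refine h ?_
    simp only [chi, RingHom.coe_comp, Function.comp_apply, AlgHom.toRingHom_eq_coe,
      AlgHom.coe_toRingHom, hev, Ideal.Quotient.lift_mk, IsLocalRing.residue_eq_zero_iff]
    have h1 := congrArg (awayToAtPrime A 𝔭 f hf) ha
    rw [map_mul, map_pow, awayToAtPrime_algebraMap, awayToAtPrime_algebraMap] at h1
    have h2 : algebraMap A (Localization.AtPrime 𝔭) a ∈ IsLocalRing.maximalIdeal _ := by
      rw [← Localization.AtPrime.map_eq_maximalIdeal]; exact Ideal.mem_map_of_mem _ hmem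
    rw [← h1] at h2
    refine ((Ideal.IsPrime.mem_or_mem inferInstance h2).resolve_right fun h3 => ?_)
    refine (IsLocalRing.maximalIdeal (Localization.AtPrime 𝔭)).ne_top_iff_one.mp
      (IsLocalRing.maximalIdeal.isMaximal _).ne_top ?_
    exact absurd ((IsLocalization.map_units (Localization.AtPrime 𝔭)
      (⟨f, hf⟩ : 𝔭.primeCompl)).pow n) (by simpa using h3)
  have hfa : f * a ∉ 𝔭 := fun h' => ((‹𝔭.IsPrime›).mem_or_mem h').elim hf ha'
  have hl := isUnit_algebraMap_away_mul_left A f a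
  have hz' : IsUnit (awayMap A f (f * a) hl z) := by
    have h1 := congrArg (awayMap A f (f * a) hl) ha
    rw [map_mul, awayMap_algebraMap] at h1
    exact isUnit_of_mul_isUnit_left (h1 ▸ isUnit_algebraMap_away_mul_right A f a)
  have hu : IsUnit (cAwayMap A J f (f * a) hl y) := isUnit_of_isUnit_evalₐ_one _ _ (by
    rw [cAwayMap, evalₐ_complMap, ← hz, Ideal.quotientMap_mk]
    exact hz'.map _)
  have : x = ((cAwayToAtPrime A J 𝔭 (f * a) hfa).codRestrict (stalkSubring A J 𝔭)
      (cAwayToAtPrime_mem A J 𝔭 _ hfa)) (cAwayMap A J f (f * a) hl y) :=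
    Subtype.ext ((RingHom.congr_fun (comp_cAwayMap A J 𝔭 f _ hf hfa hl) y).trans hy).symm
  rw [this]
  exact hu.map _

include hJ in
theorem isLocalRing_stalkSubring : IsLocalRing (stalkSubring A J 𝔭) := by
  have : Nontrivial (stalkSubring A J 𝔭) :=
    ((chi A J 𝔭 hJ).comp (stalkSubring A J 𝔭).subtype).domain_nontrivial
  have key : ∀ x : stalkSubring A J 𝔭, IsUnit x ↔ chi A J 𝔭 hJ x ≠ 0 := fun x =>
    ⟨fun hx => (isUnit_iff_chi_ne_zero A J 𝔭 hJ _).mp (hx.map (stalkSubring A J 𝔭).subtype),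
      isUnit_stalk_of_chi_ne_zero A J 𝔭 hJ x⟩
  refine IsLocalRing.of_nonunits_add fun a b ha hb => ?_
  simp only [mem_nonunits_iff, key, not_not] at ha hb ⊢
  rw [Subring.coe_add, map_add, ha, hb, add_zero]

include hJ in
theorem isLocalHom_subtype : IsLocalHom (stalkSubring A J 𝔭).subtype :=
  ⟨fun x hx => isUnit_stalk_of_chi_ne_zero A J 𝔭 hJ x
    ((isUnit_iff_chi_ne_zero A J 𝔭 hJ _).mp hx)⟩

include hJ in
/-- Every element is, up to a nonunit, in the image of `A_𝔭`. -/
theorem exists_sub_mem_nonunits (x : cAtPrime A J 𝔭) :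
    ∃ z : Localization.AtPrime 𝔭, ¬ IsUnit (x - algebraMap _ _ z) := by
  obtain ⟨z, hz⟩ := IsLocalRing.residue_surjective (chi A J 𝔭 hJ x)
  refine ⟨z, fun h => (isUnit_iff_chi_ne_zero A J 𝔭 hJ _).mp h ?_⟩
  rw [map_sub, chi_algebraMap, hz, sub_self]

end Groth.Agent.FComplLib
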